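import Cfsg.Agent.Perm2.Ker

/-! Extremely primitive groups: normal subgroups of a point stabilizer. -/

set_option autoImplicit false

namespace Cfsg.Agent.Perm2

open MulAction Subgroup

variable {G Ω : Type*} [Group G] [MulAction G Ω]

/-- In an extremely primitive group a nontrivial normal subgroup of a point stabilizer is transitive on
every suborbit. -/
theorem extreme_exists_smul_eq [Finite G] [FaithfulSMul G Ω] (hprim : IsPreprimitive G Ω) {α : Ω}
    (hep : ∀ γ : Ω, IsPreprimitive (stabilizer G α) (orbit (stabilizer G α) γ))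
    {M : Subgroup G} (hM : M ≠ ⊥) (hMle : M ≤ stabilizer G α)
    (hMn : stabilizer G α ≤ normalizer (M : Set G)) {ω : Ω} {h : G} (hh : h • α = α) :
    ∃ m ∈ M, m • ω = h • ω := by
  by_cases hω : ω = α
  · exact ⟨1, one_mem _, by rw [hω, hh, one_smul]⟩
  have hH : stabilizer G α ≠ ⊥ := fun h => hM (le_bot_iff.mp (h ▸ hMle))
  have hK := manning hprim hH hep hω
  have : ¬ M ≤ Ker G α ω := fun h => hM (le_bot_iff.mp (hK ▸ h))
  obtain ⟨k, hk, hkK⟩ := Set.not_subset.mp this
  have hkα : k • α = α := hMle hk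
  have : ∃ δ ∈ orbit (stabilizer G α) ω, k • δ ≠ δ := by
    by_contra hcon
    push Not at hcon
    exact hkK (mem_Ker'.mpr ⟨hkα, hcon⟩)
  obtain ⟨δ, hδ, hkδ⟩ := this
  obtain ⟨x, hx, -, hx'⟩ := exists_smul_eq_of_normal_of_suborbit_primitive (hep ω) hMn hk hkα hδ hkδ
    (mem_orbit_self ω) (mem_suborbit_iff.mpr ⟨h, hh, rfl⟩)
  exact ⟨x, hx, hx'⟩

/-- In an extremely primitive group an element of the stabilizer of `α` that fixes `ω ≠ α` and centralizes
a nontrivial normal subgroup of the stabilizer is trivial. -/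
theorem extreme_eq_one_of_centralizes [Finite G] [FaithfulSMul G Ω] (hprim : IsPreprimitive G Ω) {α : Ω}
    (hep : ∀ γ : Ω, IsPreprimitive (stabilizer G α) (orbit (stabilizer G α) γ))
    {M : Subgroup G} (hM : M ≠ ⊥) (hMle : M ≤ stabilizer G α)
    (hMn : stabilizer G α ≤ normalizer (M : Set G)) {ω : Ω} (hω : ω ≠ α) {c : G} (hc : c • α = α)
    (hcω : c • ω = ω) (hcomm : ∀ m ∈ M, m * c = c * m) : c = 1 := by
  have hH : stabilizer G α ≠ ⊥ := fun h => hM (le_bot_iff.mp (h ▸ hMle))
  rw [← mem_bot, ← manning hprim hH hep hω]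
  refine ⟨hc, fun h hh => ?_⟩
  obtain ⟨m, hm, hm'⟩ := extreme_exists_smul_eq hprim hep hM hMle hMn (ω := ω) hh
  rw [← hm', ← mul_smul, ← hcomm m hm, mul_smul, hcω]

/-- In an extremely primitive group a nontrivial abelian normal subgroup of a point stabilizer is
self-centralizing in that stabilizer. -/
theorem extreme_mem_of_centralizes [Finite G] [FaithfulSMul G Ω] (hprim : IsPreprimitive G Ω) {α : Ω}
    (hep : ∀ γ : Ω, IsPreprimitive (stabilizer G α) (orbit (stabilizer G α) γ))
    {M : Subgroup G} (hM : M ≠ ⊥) (hMle : M ≤ stabilizer G α)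
    (hMn : stabilizer G α ≤ normalizer (M : Set G)) (hab : ∀ m ∈ M, ∀ n ∈ M, m * n = n * m)
    {c : G} (hc : c • α = α) (hcomm : ∀ m ∈ M, m * c = c * m) : c ∈ M := by
  have := nontrivial_of_ne_bot (Ω := Ω) hM
  obtain ⟨ω, hω⟩ := exists_ne α
  obtain ⟨m, hm, hm'⟩ := extreme_exists_smul_eq hprim hep hM hMle hMn (ω := ω) hc
  have hmα : m • α = α := hMle hm
  have h1 : m⁻¹ * c = 1 := by
    apply extreme_eq_one_of_centralizes hprim hep hM hMle hMn hω
    · rw [mul_smul, hc, inv_smul_eq_iff, hmα]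
    · rw [mul_smul, ← hm', inv_smul_smul]
    · intro n hn
      rw [← mul_assoc, hab n hn _ (inv_mem hm), mul_assoc, hcomm n hn, mul_assoc]
  rw [inv_mul_eq_one] at h1
  exact h1 ▸ hm

/-- In an extremely primitive group a nontrivial abelian normal subgroup of a point stabilizer has the
order of every nontrivial suborbit. -/
theorem extreme_card_suborbit [Finite G] [FaithfulSMul G Ω] (hprim : IsPreprimitive G Ω) {α : Ω}
    (hep : ∀ γ : Ω, IsPreprimitive (stabilizer G α) (orbit (stabilizer G α) γ))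
    {M : Subgroup G} (hM : M ≠ ⊥) (hMle : M ≤ stabilizer G α)
    (hMn : stabilizer G α ≤ normalizer (M : Set G)) (hab : ∀ m ∈ M, ∀ n ∈ M, m * n = n * m)
    {ω : Ω} (hω : ω ≠ α) : Nat.card (orbit (stabilizer G α) ω) = Nat.card M := by
  symm
  let f : M → orbit (stabilizer G α) ω := fun m =>
    ⟨(m : G) • ω, mem_suborbit_iff.mpr ⟨m, hMle m.2, rfl⟩⟩
  apply Nat.card_eq_of_bijective f
  constructor
  · intro m n hmn
    have h1 : (m : G) • ω = (n : G) • ω := congrArg Subtype.val hmn
    have h2 : (n : G)⁻¹ * m = 1 := by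
      apply extreme_eq_one_of_centralizes hprim hep hM hMle hMn hω
      · exact hMle (mul_mem (inv_mem n.2) m.2)
      · rw [mul_smul, h1, inv_smul_smul]
      · intro k hk
        exact hab k hk _ (mul_mem (inv_mem n.2) m.2)
    rw [inv_mul_eq_one] at h2
    exact Subtype.ext h2.symm
  · rintro ⟨z, hz⟩
    obtain ⟨h, hh, rfl⟩ := mem_suborbit_iff.mp hz
    obtain ⟨m, hm, hm'⟩ := extreme_exists_smul_eq hprim hep hM hMle hMn (ω := ω) hh
    exact ⟨⟨m, hm⟩, Subtype.ext hm'⟩

/-- Affine extremely primitive groups: a nontrivial normal subgroup of a point stabilizer acts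
irreducibly on the regular abelian normal subgroup. -/
theorem extreme_irreducible [Finite G] [FaithfulSMul G Ω] (hprim : IsPreprimitive G Ω) {α : Ω}
    (hep : ∀ γ : Ω, IsPreprimitive (stabilizer G α) (orbit (stabilizer G α) γ))
    (N : Subgroup G) [hN : N.Normal] (hNreg : ∀ n ∈ N, n • α = α → n = 1)
    {M : Subgroup G} (hM : M ≠ ⊥) (hMle : M ≤ stabilizer G α)
    (hMn : stabilizer G α ≤ normalizer (M : Set G)) (L : Subgroup G) (hL : L ≤ N)
    (hML : M ≤ normalizer (L : Set G)) : L = ⊥ ∨ L = N := by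
  have hinj : ∀ n ∈ N, ∀ n' ∈ N, n • α = n' • α → n = n' := by
    intro n hn n' hn' h
    have := hNreg (n'⁻¹ * n) (mul_mem (inv_mem hn') hn) (by rw [mul_smul, h, inv_smul_smul])
    exact (inv_mul_eq_one.mp this).symm
  have h1 : stabilizer G α ≤ normalizer (L : Set G) := by
    rw [le_normalizer_iff]
    intro h hh l hl
    obtain ⟨m, hm, hm'⟩ := extreme_exists_smul_eq hprim hep hM hMle hMn (ω := l • α) hh
    have hmα : m⁻¹ • α = α := hMle (inv_mem hm)
    have hhα : h⁻¹ • α = α := inv_mem hh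
    have h2 : m * l * m⁻¹ ∈ L := le_normalizer_iff.mp hML m hm l hl
    have h3 : h * l * h⁻¹ = m * l * m⁻¹ := by
      apply hinj _ (hN.conj_mem l (hL hl) h) _ (hL h2)
      simp only [mul_smul, hmα, hhα, hm']
    rwa [h3]
  by_cases hbot : L = ⊥
  · exact Or.inl hbot
  right
  obtain ⟨l, hl, hl1⟩ := (L.bot_or_exists_ne_one).resolve_left hbot
  have hlα : l • α ≠ α := fun h => hl1 (hNreg l (hL hl) h)
  have htop : L ⊔ stabilizer G α = ⊤ :=
    eq_top_of_stab_le hprim le_sup_right (mem_sup_left hl) hlα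
  apply le_antisymm hL
  intro n hn
  have h2 : n ∈ ((stabilizer G α ⊔ L : Subgroup G) : Set G) := by rw [sup_comm, htop]; trivial
  rw [coe_mul_of_left_le_normalizer_right _ _ h1] at h2
  obtain ⟨h, hh, k, hk, hhk⟩ := h2
  have hh1 : h ∈ N := by
    have : h = n * k⁻¹ := by rw [← hhk]; simp
    rw [this]
    exact mul_mem hn (inv_mem (hL hk))
  have := hNreg h hh1 hh
  rw [← hhk, this]
  simpa using hk

/-- In an extremely primitive group two nontrivial abelian normal subgroups of a point stabilizer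
coincide. -/
theorem extreme_le_of_abelian [Finite G] [FaithfulSMul G Ω] (hprim : IsPreprimitive G Ω) {α : Ω}
    (hep : ∀ γ : Ω, IsPreprimitive (stabilizer G α) (orbit (stabilizer G α) γ))
    {M : Subgroup G} (hMle : M ≤ stabilizer G α)
    (hMn : stabilizer G α ≤ normalizer (M : Set G)) (hab : ∀ m ∈ M, ∀ n ∈ M, m * n = n * m)
    {M' : Subgroup G} (hM' : M' ≠ ⊥) (hMle' : M' ≤ stabilizer G α)
    (hMn' : stabilizer G α ≤ normalizer (M' : Set G)) (hab' : ∀ m ∈ M', ∀ n ∈ M', m * n = n * m) :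
    M ≤ M' := by
  intro c hc
  by_cases hI : M ⊓ M' = ⊥
  · apply extreme_mem_of_centralizes hprim hep hM' hMle' hMn' hab' (hMle hc)
    intro m hm
    have h1 : m * c * m⁻¹ * c⁻¹ ∈ M ⊓ M' := by
      rw [mem_inf]
      constructor
      · exact mul_mem (le_normalizer_iff.mp hMn m (hMle' hm) c hc) (inv_mem hc)
      · have := mul_mem hm (le_normalizer_iff.mp hMn' c (hMle hc) m⁻¹ (inv_mem hm))
        simpa [mul_assoc] using this
    rw [hI, mem_bot, mul_inv_eq_one, mul_inv_eq_iff_eq_mul] at h1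
    exact h1
  · have h1 : c ∈ M ⊓ M' := by
      apply extreme_mem_of_centralizes hprim hep hI (inf_le_left.trans hMle)
        ((le_inf hMn hMn').trans inf_normalizer_le_normalizer_inf)
        (fun m hm n hn => hab m hm.1 n hn.1) (hMle hc)
      intro m hm
      exact hab m hm.1 c hc
    exact h1.2

/-- In an extremely primitive group a nontrivial nilpotent normal subgroup of a point stabilizer is
elementary abelian. -/
theorem extreme_elementary_of_nilpotent [Finite G] [FaithfulSMul G Ω] (hprim : IsPreprimitive G Ω)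
    {α : Ω} (hep : ∀ γ : Ω, IsPreprimitive (stabilizer G α) (orbit (stabilizer G α) γ))
    {M : Subgroup G} (hM : M ≠ ⊥) (hMle : M ≤ stabilizer G α)
    (hMn : stabilizer G α ≤ normalizer (M : Set G)) (hnil : Group.IsNilpotent M) :
    (∀ m ∈ M, ∀ n ∈ M, m * n = n * m) ∧ ∃ p : ℕ, p.Prime ∧ ∀ m ∈ M, m ^ p = 1 := by
  have : Nontrivial M := (M.nontrivial_iff_ne_bot).mpr hM
  have hZ : center M ≠ ⊥ := Group.IsNilpotent.center_ne_bot M
  have hlt : 1 < Nat.card (center M) := (one_lt_card_iff_ne_bot _).mpr hZ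
  have hp : (Nat.card (center M)).minFac.Prime := Nat.minFac_prime hlt.ne'
  set p := (Nat.card (center M)).minFac with hpdef
  have : Fact p.Prime := ⟨hp⟩
  obtain ⟨z, hz⟩ := exists_prime_orderOf_dvd_card' (G := center M) p (Nat.minFac_dvd _)
  let E : Subgroup G :=
    { carrier := {x | x ∈ M ∧ (∀ m ∈ M, m * x = x * m) ∧ x ^ p = 1}
      one_mem' := ⟨one_mem _, by simp, by simp⟩
      mul_mem' := by
        rintro x y ⟨hx1, hx2, hx3⟩ ⟨hy1, hy2, hy3⟩
        refine ⟨mul_mem hx1 hy1, fun m hm => ?_, ?_⟩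
        · rw [← mul_assoc, hx2 m hm, mul_assoc, hy2 m hm, mul_assoc]
        · rw [Commute.mul_pow (hy2 x hx1), hx3, hy3, one_mul]
      inv_mem' := by
        rintro x ⟨hx1, hx2, hx3⟩
        refine ⟨inv_mem hx1, fun m hm => ?_, by rw [inv_pow, hx3, inv_one]⟩
        exact (Commute.inv_right (hx2 m hm)) }
  have hE : E ≠ ⊥ := by
    intro h
    have h1 : ((z : M) : G) ∈ E := by
      refine ⟨(z : M).2, fun m hm => ?_, ?_⟩
      · exact congrArg Subtype.val (mem_center_iff.mp z.2 ⟨m, hm⟩)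
      · have : z ^ p = 1 := by rw [← hz]; exact pow_orderOf_eq_one z
        exact congrArg (fun t : center M => ((t : M) : G)) this
    rw [h, mem_bot] at h1
    have h2 : z = 1 := Subtype.ext (Subtype.ext h1)
    rw [h2, orderOf_one] at hz
    exact hp.one_lt.ne hz
  have hEn : stabilizer G α ≤ normalizer (E : Set G) := by
    rw [le_normalizer_iff]
    rintro h hh x ⟨hx1, hx2, hx3⟩
    refine ⟨le_normalizer_iff.mp hMn h hh x hx1, fun m hm => ?_, by rw [conj_pow, hx3]; simp⟩
    have h1 := hx2 _ (le_normalizer_iff.mp hMn h⁻¹ (inv_mem hh) m hm)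
    calc m * (h * x * h⁻¹) = h * (h⁻¹ * m * h⁻¹⁻¹ * x) * h⁻¹ := by group
      _ = h * (x * (h⁻¹ * m * h⁻¹⁻¹)) * h⁻¹ := by rw [h1]
      _ = h * x * h⁻¹ * m := by group
  have hME : M ≤ E := by
    intro c hc
    apply extreme_mem_of_centralizes hprim hep hE (fun x hx => hMle hx.1) hEn
      (fun m hm n hn => hn.2.1 m hm.1) (hMle hc)
    intro m hm
    exact (hm.2.1 c hc).symm
  exact ⟨fun m hm n hn => (hME hn).2.1 m hm, p, hp, fun m hm => (hME hm).2.2⟩

end Cfsg.Agent.Perm2
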