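import Cfsg.Agent.Perm2.Basic

/-! The kernel of a point stabilizer on a suborbit, and Manning's theorem. -/

set_option autoImplicit false

namespace Cfsg.Agent.Perm2

open MulAction Subgroup

/-- The kernel of the action of the stabilizer of `x` on its orbit through `y`, as a subgroup of `G`. -/
def Ker (G : Type*) {Ω : Type*} [Group G] [MulAction G Ω] (x y : Ω) : Subgroup G where
  carrier := {g | g • x = x ∧ ∀ h : G, h • x = x → g • h • y = h • y}
  one_mem' := ⟨one_smul _ _, fun _ _ => one_smul _ _⟩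
  mul_mem' := by
    rintro g g' ⟨h1, h2⟩ ⟨h3, h4⟩
    exact ⟨by rw [mul_smul, h3, h1], fun h hh => by rw [mul_smul, h4 h hh, h2 h hh]⟩
  inv_mem' := by
    rintro g ⟨h1, h2⟩
    exact ⟨by rw [inv_smul_eq_iff, h1], fun h hh => by rw [inv_smul_eq_iff, h2 h hh]⟩

variable {G Ω : Type*} [Group G] [MulAction G Ω]

theorem mem_Ker {x y : Ω} {g : G} :
    g ∈ Ker G x y ↔ g • x = x ∧ ∀ h : G, h • x = x → g • h • y = h • y := Iff.rfl

theorem mem_Ker' {x y : Ω} {g : G} :
    g ∈ Ker G x y ↔ g • x = x ∧ ∀ z ∈ orbit (stabilizer G x) y, g • z = z := by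
  rw [mem_Ker]
  refine and_congr_right fun _ => ⟨fun h z hz => ?_, fun h k hk => h _ (mem_suborbit_iff.mpr ⟨k, hk, rfl⟩)⟩
  obtain ⟨k, hk, rfl⟩ := mem_suborbit_iff.mp hz
  exact h k hk

theorem Ker_le_left (x y : Ω) : Ker G x y ≤ stabilizer G x := fun _ hg => hg.1

theorem Ker_le_right (x y : Ω) : Ker G x y ≤ stabilizer G y := fun g hg => by
  have := hg.2 1 (one_smul _ _)
  rwa [one_smul] at this

theorem Ker_le_smul {x : Ω} (y : Ω) {h : G} (hh : h • x = x) : Ker G x y ≤ stabilizer G (h • y) :=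
  fun _ hg => hg.2 h hh

theorem conj_mem_Ker {x y : Ω} {g h : G} (hg : g ∈ Ker G x y) : h * g * h⁻¹ ∈ Ker G (h • x) (h • y) := by
  refine ⟨by rw [mul_smul, mul_smul, inv_smul_smul, hg.1], fun k hk => ?_⟩
  have h1 : (h⁻¹ * k * h) • x = x := by rw [mul_smul, mul_smul, hk, inv_smul_smul]
  have h2 := hg.2 _ h1
  simp only [mul_smul] at h2 ⊢
  rw [h2, smul_inv_smul]

theorem mem_Ker_smul_iff {x y : Ω} {g h : G} : g ∈ Ker G (h • x) (h • y) ↔ h⁻¹ * g * h ∈ Ker G x y := by
  constructor
  · intro hg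
    have := conj_mem_Ker (h := h⁻¹) hg
    rwa [inv_inv, inv_smul_smul, inv_smul_smul] at this
  · intro hg
    have := conj_mem_Ker (h := h) hg
    simpa [mul_assoc] using this

theorem Ker_smul_right {x : Ω} (y : Ω) {h : G} (hh : h • x = x) : Ker G x (h • y) = Ker G x y := by
  ext g
  simp only [mem_Ker]
  refine and_congr_right fun _ => ⟨fun H k hk => ?_, fun H k hk => ?_⟩
  · have := H (k * h⁻¹) (by rw [mul_smul, inv_smul_eq_iff.mpr hh.symm, hk])
    simpa [mul_smul] using this
  · have := H (k * h) (by rw [mul_smul, hh, hk])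
    simpa [mul_smul] using this

theorem stab_le_normalizer_Ker (x y : Ω) : stabilizer G x ≤ normalizer (Ker G x y : Set G) := by
  rw [le_normalizer_iff]
  intro h hh g hg
  have := conj_mem_Ker (h := h) hg
  rwa [mem_stabilizer_iff.mp hh, Ker_smul_right y hh] at this

theorem Ker_smul (h : G) (x y : Ω) :
    Ker G (h • x) (h • y) = (Ker G x y).map (MulAut.conj h).toMonoidHom := by
  ext g
  rw [mem_Ker_smul_iff, mem_map_equiv]
  simp

theorem card_Ker_smul (h : G) (x y : Ω) : Nat.card (Ker G (h • x) (h • y)) = Nat.card (Ker G x y) := by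
  rw [Ker_smul]
  exact card_map_of_injective (MulAut.conj h).injective

/-- A subgroup of the two-point stabilizer normalized by the stabilizer of `x` lies in the kernel. -/
theorem le_Ker_of_normalized {x y : Ω} {X : Subgroup G} (hx : X ≤ stabilizer G x)
    (hy : X ≤ stabilizer G y) (hn : stabilizer G x ≤ normalizer (X : Set G)) : X ≤ Ker G x y := by
  intro g hg
  refine ⟨hx hg, fun h hh => ?_⟩
  have h1 : h⁻¹ * g * h⁻¹⁻¹ ∈ X :=
    le_normalizer_iff.mp hn h⁻¹ (inv_mem (mem_stabilizer_iff.mpr hh)) g hg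
  have h2 := mem_stabilizer_iff.mp (hy h1)
  rw [inv_inv, mul_smul, mul_smul, inv_smul_eq_iff] at h2
  exact h2

theorem Ker_subgroupOf (x y : Ω) :
    (Ker G x y).subgroupOf (stabilizer G x) =
      (toPermHom (stabilizer G x) (orbit (stabilizer G x) y)).ker := by
  ext g
  rw [mem_subgroupOf, mem_Ker', MonoidHom.mem_ker, Equiv.ext_iff]
  constructor
  · rintro ⟨-, h⟩ z
    exact Subtype.ext (h z z.2)
  · intro h
    exact ⟨g.2, fun z hz => congrArg Subtype.val (h ⟨z, hz⟩)⟩

theorem relIndex_Ker (x y : Ω) :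
    (Ker G x y).relIndex (stabilizer G x) =
      Nat.card (toPermHom (stabilizer G x) (orbit (stabilizer G x) y)).range := by
  rw [relIndex, Ker_subgroupOf, index_ker]

theorem card_suborbit_smul (h : G) (x y : Ω) :
    Nat.card (orbit (stabilizer G (h • x)) (h • y)) = Nat.card (orbit (stabilizer G x) y) := by
  rw [card_suborbit, card_suborbit, stabilizer_smul_eq_stabilizer_map_conj,
    stabilizer_smul_eq_stabilizer_map_conj]
  exact relIndex_map_map_of_injective _ _ (MulAut.conj h).injective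

/-- A subgroup normalized by the stabilizer of `α` that moves a point of a suborbit on which the stabilizer is
primitive is transitive on that suborbit. -/
theorem exists_smul_eq_of_normal_of_suborbit_primitive {α γ : Ω}
    (hep : IsPreprimitive (stabilizer G α) (orbit (stabilizer G α) γ)) {X : Subgroup G}
    (hn : stabilizer G α ≤ normalizer (X : Set G)) {k : G} (hk : k ∈ X) (hkα : k • α = α) {δ : Ω}
    (hδ : δ ∈ orbit (stabilizer G α) γ) (hkδ : k • δ ≠ δ) {y z : Ω}
    (hy : y ∈ orbit (stabilizer G α) γ) (hz : z ∈ orbit (stabilizer G α) γ) :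
    ∃ x ∈ X, x • α = α ∧ x • y = z := by
  have : (X.subgroupOf (stabilizer G α)).Normal := normal_subgroupOf_of_le_normalizer hn
  have hne : fixedPoints (X.subgroupOf (stabilizer G α)) (orbit (stabilizer G α) γ) ≠ Set.univ := by
    intro h
    have h1 : (⟨δ, hδ⟩ : orbit (stabilizer G α) γ) ∈
        fixedPoints (X.subgroupOf (stabilizer G α)) (orbit (stabilizer G α) γ) := h ▸ Set.mem_univ _
    have h2 := h1 ⟨⟨k, hkα⟩, hk⟩
    exact hkδ (congrArg Subtype.val h2)
  have ht := IsQuasiPreprimitive.isPretransitive_of_normal hne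
  obtain ⟨x, hx⟩ := ht.exists_smul_eq ⟨y, hy⟩ ⟨z, hz⟩
  exact ⟨x.1.1, x.2, x.1.2, congrArg Subtype.val hx⟩

/-- **Manning's theorem.** -/
theorem manning [Finite G] [FaithfulSMul G Ω] (hprim : IsPreprimitive G Ω) {α ω : Ω}
    (hH : stabilizer G α ≠ ⊥)
    (hep : ∀ γ : Ω, IsPreprimitive (stabilizer G α) (orbit (stabilizer G α) γ))
    (hω : ω ≠ α) : Ker G α ω = ⊥ := by
  obtain ⟨g, hg⟩ := exists_smul_eq G α ω
  have hle : Ker G α ω ≤ Ker G (g • α) (g • ω) := by
    intro k hk
    refine ⟨by rw [hg]; exact Ker_le_right α ω hk, fun h hh => ?_⟩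
    by_contra hkγ
    set γ := h • g • ω with hγ
    have hγα : γ ≠ α := fun h => hkγ (by rw [h]; exact hk.1)
    have hsub : orbit (stabilizer G α) ω ⊆ orbit (stabilizer G γ) ω := by
      intro β hβ
      obtain ⟨u, hu, rfl⟩ := mem_suborbit_iff.mp hβ
      have hu' : u⁻¹ • α = α := inv_smul_eq_iff.mpr hu.symm
      obtain ⟨x, hx, -, hxγ⟩ := exists_smul_eq_of_normal_of_suborbit_primitive (hep γ)
        (stab_le_normalizer_Ker α ω) hk hk.1 (mem_orbit_self γ) hkγ (mem_orbit_self γ)
        (mem_suborbit_iff.mpr ⟨u⁻¹, hu', rfl⟩)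
      refine mem_suborbit_iff.mpr ⟨u * x, by rw [mul_smul, hxγ, smul_inv_smul], ?_⟩
      rw [mul_smul, mem_stabilizer_iff.mp (Ker_le_right α ω hx)]
    have hfin : ∀ x y : Ω, (orbit (stabilizer G x) y).Finite := fun x y => Set.finite_range _
    have hcard : Nat.card (orbit (stabilizer G γ) ω) = Nat.card (orbit (stabilizer G α) ω) := by
      have h1 : ω = (h * g) • α := by rw [mul_smul, hh, hg]
      have h2 : γ = (h * g) • ω := by rw [mul_smul]
      rw [card_suborbit_symm α ω, ← card_suborbit_smul (h * g) ω α, ← h1, ← h2]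
    have heq : orbit (stabilizer G α) ω = orbit (stabilizer G γ) ω :=
      Set.eq_of_subset_of_ncard_le hsub (le_of_eq hcard) (hfin _ _)
    have hγne : stabilizer G γ ≠ ⊥ := by
      intro hb
      apply hH
      rw [← card_eq_one, card_stabilizer_eq α γ, hb, card_bot]
    obtain ⟨t, ht, htα⟩ := exists_stab_smul_ne hprim hγα hγne
    let Y : Subgroup G :=
      { carrier := {u | ∀ z, z ∈ orbit (stabilizer G α) ω ↔ u • z ∈ orbit (stabilizer G α) ω}
        one_mem' := fun z => by rw [one_smul]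
        mul_mem' := fun {u v} hu hv z => by rw [mul_smul, ← hu, ← hv]
        inv_mem' := fun {u} hu z => by rw [hu (u⁻¹ • z), smul_inv_smul] }
    have hst : ∀ (x : Ω) (u : G), u • x = x → ∀ z, z ∈ orbit (stabilizer G x) ω ↔
        u • z ∈ orbit (stabilizer G x) ω := by
      intro x u hu z
      rw [mem_suborbit_iff, mem_suborbit_iff]
      constructor
      · rintro ⟨v, hv, rfl⟩
        exact ⟨u * v, by rw [mul_smul, hv, hu], mul_smul _ _ _⟩
      · rintro ⟨v, hv, hvz⟩
        exact ⟨u⁻¹ * v, by rw [mul_smul, hv, inv_smul_eq_iff, hu], by rw [mul_smul, hvz, inv_smul_smul]⟩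
    have hY : Y = ⊤ := by
      apply eq_top_of_stab_le hprim (a := α) (g := t) _ _ htα
      · intro u hu
        exact hst α u hu
      · intro z
        rw [heq]
        exact hst γ t ht z
    have h3 : g⁻¹ ∈ Y := hY ▸ mem_top _
    have h4 := (h3 ω).mp (mem_orbit_self ω)
    rw [← hg, inv_smul_smul, hg] at h4
    obtain ⟨v, hv, hv'⟩ := mem_suborbit_iff.mp h4
    apply hω
    rw [← hv] at hv'
    exact smul_left_cancel v hv'
  have heq : Ker G α ω = Ker G (g • α) (g • ω) :=
    Subgroup.eq_of_le_of_card_ge hle (card_Ker_smul g α ω).le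
  apply eq_bot_of_normalized_two hprim hω.symm (Ker_le_left α ω) (stab_le_normalizer_Ker α ω)
  rw [heq, hg]
  exact stab_le_normalizer_Ker _ _

end Cfsg.Agent.Perm2
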