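import Cfsg.Agent.Perm2.Subn

/-! The Thompson–Wielandt theorem. -/

set_option autoImplicit false

namespace Cfsg.Agent.Perm2

open Subgroup

variable {G : Type*} [Group G]

theorem inv_pow_mul_mul_pow_mem {V : Subgroup G} {c v : G} (hc : c ∈ normalizer (V : Set G))
    (hv : v ∈ V) (n : ℕ) : (c ^ n)⁻¹ * (c * v) ^ n ∈ V := by
  induction n with
  | zero => simp
  | succ n ih =>
    have h1 : (c ^ (n + 1))⁻¹ * (c * v) ^ (n + 1) = (c⁻¹ * ((c ^ n)⁻¹ * (c * v) ^ n) * c) * v := by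
      rw [pow_succ, pow_succ]; group
    rw [h1]
    exact mul_mem ((mem_normalizer_iff''.mp hc _).mp ih) hv

/-- The subgroup generated by the `p'`-elements of `V`. -/
def Opp (p : ℕ) (V : Subgroup G) : Subgroup G := closure {x | x ∈ V ∧ (orderOf x).Coprime p}

theorem Opp_le (p : ℕ) (V : Subgroup G) : Opp p V ≤ V := (closure_le _).mpr fun _ hx => hx.1

theorem orderOf_conj' (g x : G) : orderOf (g * x * g⁻¹) = orderOf x :=
  (MulAut.conj g).orderOf_eq x

theorem le_normalizer_Opp {p : ℕ} {V C : Subgroup G}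
    (h : ∀ c ∈ C, ∀ v ∈ V, (orderOf v).Coprime p → c * v * c⁻¹ ∈ V) :
    C ≤ normalizer ((Opp p V : Subgroup G) : Set G) := by
  refine le_trans ?_ (normalizer_le_normalizer_closure _)
  rw [le_set_normalizer_iff]
  rintro c hc v ⟨hv, hv'⟩
  exact ⟨h c hc v hv hv', by rwa [orderOf_conj']⟩

theorem NormalIn.Opp_normalIn {V H : Subgroup G} (h : NormalIn V H) (p : ℕ) : NormalIn (Opp p V) H :=
  ⟨(Opp_le p V).trans h.1, le_normalizer_Opp fun _ hc _ hv _ => h.conj_mem hc hv⟩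

theorem Opp_ne_bot [Finite G] {p : ℕ} [Fact p.Prime] {V : Subgroup G} (h : ¬ IsPGroup p V) :
    Opp p V ≠ ⊥ := by
  intro hbot
  apply h
  rw [IsPGroup.iff_card]
  refine ⟨_, Nat.eq_prime_pow_of_unique_prime_dvd Nat.card_pos.ne' ?_⟩
  intro q hq hdvd
  by_contra hne
  have : Fact q.Prime := ⟨hq⟩
  obtain ⟨z, hz⟩ := exists_prime_orderOf_dvd_card' (G := V) q hdvd
  have hz' : orderOf (z : G) = q := by rw [← hz, orderOf_coe]
  have h1 : (z : G) ∈ Opp p V := subset_closure ⟨z.2, by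
    rw [hz']; exact (Nat.coprime_primes hq Fact.out).mpr hne⟩
  rw [hbot, mem_bot] at h1
  rw [h1, orderOf_one] at hz'
  exact hq.one_lt.ne hz'

/-- If the commutator of `h` with a `p'`-element `v` of `V` is a `p`-element normalizing `V`, then the
conjugate of `v` by `h` lies in `V`. -/
theorem conj_mem_of_commutator {p : ℕ} {V P : Subgroup G} (hP : IsPGroup p P)
    (hPV : P ≤ normalizer (V : Set G)) {h v : G} (hv : v ∈ V) (hvp : (orderOf v).Coprime p)
    (hc : h * v * h⁻¹ * v⁻¹ ∈ P) : h * v * h⁻¹ ∈ V := by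
  obtain ⟨k, hk⟩ := hP ⟨_, hc⟩
  have hk' : (h * v * h⁻¹ * v⁻¹) ^ p ^ k = 1 := congrArg Subtype.val hk
  have h1 := inv_pow_mul_mul_pow_mem (hPV hc) hv (p ^ k)
  rw [hk', inv_one, one_mul, inv_mul_cancel_right] at h1
  refine zpowers_le.mpr h1 (mem_zpowers_pow_iff.mpr ?_)
  rw [orderOf_conj']
  exact (Nat.Coprime.pow_right k hvp).symm

/-- The setting of the Thompson–Wielandt theorem: two different subgroups `H`, `K`, each the normalizer of
its nontrivial normal subgroups, and the cores `M`, `N` of their intersection. -/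
structure TWData (H K M N : Subgroup G) : Prop where
  primH : ∀ X : Subgroup G, X ≠ ⊥ → NormalIn X H → normalizer (X : Set G) ≤ H
  primK : ∀ X : Subgroup G, X ≠ ⊥ → NormalIn X K → normalizer (X : Set G) ≤ K
  ne : H ≠ K
  MH : NormalIn M H
  MK : M ≤ K
  Mmax : ∀ X : Subgroup G, NormalIn X H → X ≤ K → X ≤ M
  NK : NormalIn N K
  NH : N ≤ H
  Nmax : ∀ X : Subgroup G, NormalIn X K → X ≤ H → X ≤ N

namespace TWData

variable {H K M N U V : Subgroup G}

theorem symm (d : TWData H K M N) : TWData K H N M :=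
  ⟨d.primK, d.primH, d.ne.symm, d.NK, d.NH, d.Nmax, d.MH, d.MK, d.Mmax⟩

theorem eq_bot (d : TWData H K M N) {X : Subgroup G} (h1 : NormalIn X H) (h2 : NormalIn X K) :
    X = ⊥ := by
  by_contra hne
  exact d.ne (le_antisymm (h1.2.trans (d.primK X hne h2)) (h2.2.trans (d.primH X hne h1)))

theorem Op_le_of_not_isPGroup [Finite G] (d : TWData H K M N) (hU : NormalIn U H) (hUN : U ≤ N)
    {p : ℕ} [Fact p.Prime] (h : ¬ IsPGroup p U) : Op p K ≤ H := by
  refine le_trans ?_ (d.primH _ (Opp_ne_bot h) (hU.Opp_normalIn p))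
  apply le_normalizer_Opp
  intro c hc v hv hvp
  apply conj_mem_of_commutator (P := Op p K ⊓ N) ((Op_isPGroup p K).to_le inf_le_left)
    (inf_le_right.trans (d.NH.trans hU.2)) hv hvp
  exact commutator_mem_inf (Op_normalIn p K) d.NK hc (hUN hv)

theorem Op_le_Op [Finite G] (d : TWData H K M N) (hU : NormalIn U H) (hUN : U ≤ N)
    (hV : NormalIn V K) (hVM : V ≤ M) {p : ℕ} [Fact p.Prime] (h : ¬ IsPGroup p U)
    (h' : ¬ IsPGroup p V) : Op p K ≤ Op p H := by
  have hQ : Op p K ≤ H := d.Op_le_of_not_isPGroup hU hUN h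
  have hP : Op p H ≤ K := d.symm.Op_le_of_not_isPGroup hV hVM h'
  have hPn := Op_normalIn p H
  let C : Subgroup G :=
    { carrier := {c | c ∈ H ∧ ∀ m ∈ M, c * m * c⁻¹ * m⁻¹ ∈ Op p H}
      one_mem' := ⟨one_mem _, fun m _ => by simp⟩
      mul_mem' := by
        rintro a b ⟨ha, ha'⟩ ⟨hb, hb'⟩
        refine ⟨mul_mem ha hb, fun m hm => ?_⟩
        have : a * b * m * (a * b)⁻¹ * m⁻¹ =
            (a * (b * m * b⁻¹ * m⁻¹) * a⁻¹) * (a * m * a⁻¹ * m⁻¹) := by group
        rw [this]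
        exact mul_mem (hPn.conj_mem ha (hb' m hm)) (ha' m hm)
      inv_mem' := by
        rintro a ⟨ha, ha'⟩
        refine ⟨inv_mem ha, fun m hm => ?_⟩
        have : a⁻¹ * m * a⁻¹⁻¹ * m⁻¹ = a⁻¹ * (a * m * a⁻¹ * m⁻¹)⁻¹ * a := by group
        rw [this]
        exact hPn.conj_mem' ha (inv_mem (ha' m hm)) }
  have hC : NormalIn C H := by
    refine ⟨fun c hc => hc.1, ?_⟩
    rw [le_normalizer_iff]
    rintro g hg c ⟨hc, hc'⟩
    refine ⟨mul_mem (mul_mem hg hc) (inv_mem hg), fun m hm => ?_⟩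
    have : g * c * g⁻¹ * m * (g * c * g⁻¹)⁻¹ * m⁻¹ =
        g * (c * (g⁻¹ * m * g) * c⁻¹ * (g⁻¹ * m * g)⁻¹) * g⁻¹ := by group
    rw [this]
    exact hPn.conj_mem hg (hc' _ (d.MH.conj_mem' hg hm))
  have hCK : C ≤ K := by
    refine le_trans ?_ (d.primK _ (Opp_ne_bot h') (hV.Opp_normalIn p))
    apply le_normalizer_Opp
    intro c hc v hv hvp
    exact conj_mem_of_commutator (Op_isPGroup p H) (hP.trans hV.2) hv hvp (hc.2 v (hVM hv))
  have hCM : C ≤ M := d.Mmax C hC hCK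
  have hQM : NormalIn (Op p K ⊓ M) M :=
    ⟨inf_le_right, (le_inf (d.MK.trans (Op_normalIn p K).2) le_normalizer).trans
      inf_normalizer_le_normalizer_inf⟩
  have hQM' : Op p K ⊓ M ≤ Op p H :=
    (le_Op hQM ((Op_isPGroup p K).to_le inf_le_left)).trans (d.MH.Op_le_Op p)
  have hQC : Op p K ≤ C := by
    intro q hq
    refine ⟨hQ hq, fun m hm => hQM' ?_⟩
    exact commutator_mem_inf (H := H ⊓ K) ((Op_normalIn p K).of_le (le_inf hQ (Op_le p K)) inf_le_right)
      (d.MH.of_le (le_inf d.MH.1 d.MK) inf_le_left) hq hm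
  exact (le_inf le_rfl (hQC.trans hCM)).trans hQM'

theorem Op_eq_bot [Finite G] (d : TWData H K M N) (hU : NormalIn U H) (hUN : U ≤ N)
    (hV : NormalIn V K) (hVM : V ≤ M) {p : ℕ} [Fact p.Prime] (h : ¬ IsPGroup p U)
    (h' : ¬ IsPGroup p V) : Op p H = ⊥ := by
  have h1 := le_antisymm (d.Op_le_Op hU hUN hV hVM h h') (d.symm.Op_le_Op hV hVM hU hUN h' h)
  exact d.eq_bot (Op_normalIn p H) (h1 ▸ Op_normalIn p K)

theorem subnIn_of_QS (d : TWData H K M N) (hU : NormalIn U H) (hUN : U ≤ N) (hU1 : U ≠ ⊥)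
    (hV : NormalIn V K) (hVM : V ≤ M) (hV1 : V ≠ ⊥) {L : Subgroup G} (hL : QS L) (hLK : SubnIn L K) :
    SubnIn L H := by
  have h1 : L ≤ H :=
    (hL.le_normalizer_of_normalIn hLK d.NK (hU.of_le hUN d.NH)).trans (d.primH U hU1 hU)
  have h2 : SubnIn L (H ⊓ K) := hLK.of_le (le_inf h1 hLK.le) inf_le_right
  have h3 : L ≤ M := by
    rcases hL.le_or_commutator_eq_bot h2 (inf_le_left.trans d.MH.2) with h | h
    · exact h
    · rw [inf_eq_left.mpr (le_inf d.MH.1 d.MK), commutator_comm,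
        commutator_eq_bot_iff_le_centralizer] at h
      have hM1 : M ≠ ⊥ := fun h' => hV1 (le_bot_iff.mp (h' ▸ hVM))
      refine h.trans (d.Mmax _ ⟨(centralizer_le_normalizer _).trans (d.primH M hM1 d.MH),
        d.MH.2.trans (normalizer_le_normalizer_centralizer' M)⟩ ?_)
      exact (centralizer_le hVM).trans ((centralizer_le_normalizer _).trans (d.primK V hV1 hV))
  exact (h2.of_le h3 (le_inf d.MH.1 d.MK)).trans d.MH.subnIn

theorem not_QS (d : TWData H K M N) (hU : NormalIn U H) (hUN : U ≤ N) (hU1 : U ≠ ⊥)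
    (hV : NormalIn V K) (hVM : V ≤ M) (hV1 : V ≠ ⊥) {L : Subgroup G} (hLH : SubnIn L H) : ¬ QS L := by
  intro hL
  have h1 : Lay K ≤ Lay H := sSup_le fun X hX =>
    le_Lay (d.subnIn_of_QS hU hUN hU1 hV hVM hV1 hX.2 hX.1) hX.2
  have h2 : Lay H ≤ Lay K := sSup_le fun X hX =>
    le_Lay (d.symm.subnIn_of_QS hV hVM hV1 hU hUN hU1 hX.2 hX.1) hX.2
  have h3 : Lay H = ⊥ := d.eq_bot (Lay_normalIn H) (le_antisymm h1 h2 ▸ Lay_normalIn K)
  exact hL.1 (le_bot_iff.mp (h3 ▸ le_Lay hLH hL))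

/-- **Thompson–Wielandt theorem.** -/
theorem exists_isPGroup [Finite G] (d : TWData H K M N) (hU : NormalIn U H) (hUN : U ≤ N)
    (hV : NormalIn V K) (hVM : V ≤ M) : ∃ p : ℕ, p.Prime ∧ (IsPGroup p U ∨ IsPGroup p V) := by
  by_contra hcon
  push Not at hcon
  have hU1 : U ≠ ⊥ := fun h => (hcon 2 Nat.prime_two).1 (h ▸ IsPGroup.of_bot)
  have hV1 : V ≠ ⊥ := fun h => (hcon 2 Nat.prime_two).2 (h ▸ IsPGroup.of_bot)
  rcases exists_QS_or_Op hU1 hU.subnIn with ⟨L, -, h1, h2, -⟩ | ⟨p, hp, h⟩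
  · exact d.not_QS hU hUN hU1 hV hVM hV1 h1 h2
  · have : Fact p.Prime := ⟨hp⟩
    rw [d.Op_eq_bot hU hUN hV hVM (hcon p hp).1 (hcon p hp).2, inf_bot_eq] at h
    exact h rfl

theorem le_centralizer_of_isPGroup [Finite G] {X Y D : Subgroup G} (hX : NormalIn X D)
    (hY : NormalIn Y D) {p q : ℕ} [Fact p.Prime] [Fact q.Prime] (hpq : p ≠ q) (hXp : IsPGroup p X)
    (hYq : IsPGroup q Y) : X ≤ centralizer (Y : Set G) := by
  intro x hx
  rw [mem_centralizer_iff]
  intro y hy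
  exact (commute_of_disjoint hX hY (IsPGroup.disjoint_of_ne p q hpq X Y hXp hYq).eq_bot hx hy).symm

theorem false_of_isPGroup_of_ne [Finite G] (d : TWData H K M N) (hU : NormalIn U H) (hUN : U ≤ N)
    (hU1 : U ≠ ⊥) (hV : NormalIn V K) (hVM : V ≤ M) (hV1 : V ≠ ⊥) {p q : ℕ} [Fact p.Prime]
    [Fact q.Prime] (hpq : p ≠ q) (hUp : IsPGroup p U) (hVq : IsPGroup q V) : False := by
  have hUq : ¬ IsPGroup q U := fun h => hU1 (by
    simpa using (IsPGroup.disjoint_of_ne p q hpq U U hUp h))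
  have hVp : ¬ IsPGroup p V := fun h => hV1 (by
    simpa using (IsPGroup.disjoint_of_ne p q hpq V V h hVq))
  have hQ : Op q K ≤ H := d.Op_le_of_not_isPGroup hU hUN hUq
  have hP : Op p H ≤ K := d.symm.Op_le_of_not_isPGroup hV hVM hVp
  have hMD : NormalIn M (H ⊓ K) := d.MH.of_le (le_inf d.MH.1 d.MK) inf_le_left
  have hND : NormalIn N (H ⊓ K) := d.NK.of_le (le_inf d.NH d.NK.1) inf_le_right
  have hUN' : U ≤ Op p N := le_Op (hU.of_le hUN d.NH) hUp
  have hVM' : V ≤ Op q M := le_Op (hV.of_le hVM d.MK) hVq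
  have hA1 : Op q M ≠ ⊥ := fun h => hV1 (le_bot_iff.mp (h ▸ hVM'))
  have hB1 : Op p N ≠ ⊥ := fun h => hU1 (le_bot_iff.mp (h ▸ hUN'))
  -- the centralizer of `O_q(M)` lies in `M`
  have hA : centralizer ((Op q M : Subgroup G) : Set G) ≤ M := by
    apply d.Mmax _ ⟨(centralizer_le_normalizer _).trans (d.primH _ hA1 (d.MH.Op_normalIn q)),
      (d.MH.Op_normalIn q).2.trans (normalizer_le_normalizer_centralizer' _)⟩
    exact (centralizer_le hVM').trans ((centralizer_le_normalizer _).trans (d.primK V hV1 hV))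
  have hB : centralizer ((Op p N : Subgroup G) : Set G) ≤ N := by
    apply d.Nmax _ ⟨(centralizer_le_normalizer _).trans (d.primK _ hB1 (d.NK.Op_normalIn p)),
      (d.NK.Op_normalIn p).2.trans (normalizer_le_normalizer_centralizer' _)⟩
    exact (centralizer_le hUN').trans ((centralizer_le_normalizer _).trans (d.primH U hU1 hU))
  have h1 : Op p N ≤ M := (le_centralizer_of_isPGroup (hND.Op_normalIn p) (hMD.Op_normalIn q) hpq
    (Op_isPGroup p N) (Op_isPGroup q M)).trans hA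
  have h2 : Op q M ≤ N := (le_centralizer_of_isPGroup (hMD.Op_normalIn q) (hND.Op_normalIn p) hpq.symm
    (Op_isPGroup q M) (Op_isPGroup p N)).trans hB
  have h3 : Op p N ≤ Op p H :=
    (le_Op ((hND.Op_normalIn p).of_le h1 hMD.1) (Op_isPGroup p N)).trans (d.MH.Op_le_Op p)
  have h4 : Op q M ≤ Op q K :=
    (le_Op ((hMD.Op_normalIn q).of_le h2 hND.1) (Op_isPGroup q M)).trans (d.NK.Op_le_Op q)
  have hQ1 : Op q K ≠ ⊥ := fun h => hA1 (le_bot_iff.mp (h ▸ h4))
  have h5 : centralizer ((Op q K : Subgroup G) : Set G) ≤ N := by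
    apply d.Nmax _ ⟨(centralizer_le_normalizer _).trans (d.primK _ hQ1 (Op_normalIn q K)),
      (Op_normalIn q K).2.trans (normalizer_le_normalizer_centralizer' _)⟩
    exact (centralizer_le h4).trans (hA.trans d.MH.1)
  have hPD : NormalIn (Op p H) (H ⊓ K) := (Op_normalIn p H).of_le (le_inf (Op_le p H) hP) inf_le_left
  have hQD : NormalIn (Op q K) (H ⊓ K) := (Op_normalIn q K).of_le (le_inf hQ (Op_le q K)) inf_le_right
  have h6 : Op p H ≤ N :=
    (le_centralizer_of_isPGroup hPD hQD hpq (Op_isPGroup p H) (Op_isPGroup q K)).trans h5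
  have h7 : Op p H ≤ Op p N := le_Op (hPD.of_le h6 hND.1) (Op_isPGroup p H)
  exact hB1 (d.eq_bot (le_antisymm h7 h3 ▸ Op_normalIn p H) (d.NK.Op_normalIn p))

/-- If the second kernels are nontrivial then `H` has characteristic `p`. -/
theorem exists_prime_Op_eq_bot [Finite G] (d : TWData H K M N) (hU : NormalIn U H) (hUN : U ≤ N)
    (hU1 : U ≠ ⊥) (hV : NormalIn V K) (hVM : V ≤ M) (hV1 : V ≠ ⊥) :
    ∃ p : ℕ, p.Prime ∧ ∀ q : ℕ, q.Prime → q ≠ p → Op q H = ⊥ := by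
  obtain ⟨p, hp, h⟩ := d.exists_isPGroup hU hUN hV hVM
  refine ⟨p, hp, fun q hq hqp => ?_⟩
  have : Fact p.Prime := ⟨hp⟩
  have : Fact q.Prime := ⟨hq⟩
  apply d.Op_eq_bot hU hUN hV hVM
  · intro hUq
    rcases h with h | h
    · exact hU1 (by simpa using (IsPGroup.disjoint_of_ne p q hqp.symm U U h hUq))
    · exact d.false_of_isPGroup_of_ne hU hUN hU1 hV hVM hV1 hqp hUq h
  · intro hVq
    rcases h with h | h
    · exact d.false_of_isPGroup_of_ne hU hUN hU1 hV hVM hV1 hqp.symm h hVq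
    · exact hV1 (by simpa using (IsPGroup.disjoint_of_ne p q hqp.symm V V h hVq))

end TWData

end Cfsg.Agent.Perm2
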