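import Cfsg.Agent.Perm2.Basic
import Cfsg.Agent.Perm2.TW
import Cfsg.Agent.M11.Core1

/-! Primitive groups with a suborbit of length three: the collinearity graph. -/

set_option autoImplicit false

namespace Cfsg.Agent.Perm2.Sims

open MulAction Subgroup

variable {G Ω : Type*} [Group G] [MulAction G Ω]

theorem swap_of_three {X : Set Ω} (hX : X.ncard = 3) {a b c : Ω} (ha : a ∈ X) (hb : b ∈ X) (hc : c ∈ X)
    (hab : a ≠ b) (hac : a ≠ c) (hbc : b ≠ c) {x : Ω} (hx : x ∈ X) : x = a ∨ x = b ∨ x = c := by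
  have h1 : ({a, b, c} : Set Ω) = X := Set.eq_of_subset_of_ncard_le
    (Set.insert_subset ha (Set.insert_subset hb (Set.singleton_subset_iff.mpr hc)))
    (by rw [hX, Set.ncard_eq_three.mpr ⟨a, b, c, hab, hac, hbc, rfl⟩]) (Set.finite_of_ncard_ne_zero (by omega))
  exact h1.ge hx

/-- Two-point stabilizers. -/
abbrev DD (G : Type*) {Ω : Type*} [Group G] [MulAction G Ω] (p q : Ω) : Subgroup G :=
  stabilizer G p ⊓ stabilizer G q

theorem mem_DD {p q : Ω} {g : G} : g ∈ DD G p q ↔ g • p = p ∧ g • q = q := Iff.rfl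

theorem DD_comm (p q : Ω) : DD G p q = DD G q p := inf_comm _ _

/-- Collinearity. -/
def col (G : Type*) {Ω : Type*} [Group G] [MulAction G Ω] (p q : Ω) : Prop :=
  Nat.card (DD G p q) * 3 = Nat.card (stabilizer G p)

theorem DD_smul (g : G) (p q : Ω) : DD G (g • p) (g • q) = (DD G p q).map (MulAut.conj g).toMonoidHom := by
  rw [DD, stabilizer_smul_eq_stabilizer_map_conj, stabilizer_smul_eq_stabilizer_map_conj,
    map_inf _ _ _ (MulAut.conj g).injective]

theorem mem_DD_smul {g x : G} {p q : Ω} : x ∈ DD G (g • p) (g • q) ↔ g⁻¹ * x * g ∈ DD G p q := by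
  simp only [mem_DD, mul_smul, inv_smul_eq_iff]

theorem DD_smul_congr {p q p' q' : Ω} (g : G) (e : DD G p q = DD G p' q') :
    DD G (g • p) (g • q) = DD G (g • p') (g • q') := by rw [DD_smul, DD_smul, e]

theorem col.smul {p q : Ω} (h : col G p q) (g : G) : col G (g • p) (g • q) := by
  rw [col, DD_smul, card_map_of_injective (MulAut.conj g).injective, card_stabilizer_smul]
  exact h

theorem col.smul' {p q : Ω} (h : col G p q) {g : G} (hg : g • p = p) : col G p (g • q) := by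
  have := h.smul g
  rwa [hg] at this

theorem col.symm [IsPretransitive G Ω] {p q : Ω} (h : col G p q) : col G q p := by
  rw [col, DD_comm, card_stabilizer_eq q p]
  exact h

theorem col.card_eq {p q q' : Ω} (h : col G p q) (h' : col G p q') :
    Nat.card (DD G p q') = Nat.card (DD G p q) :=
  Nat.eq_of_mul_eq_mul_right (m := 3) (by decide) (h'.trans (Eq.symm h))

theorem col.of_eq {p q q' : Ω} (h : col G p q) (e : DD G p q' = DD G p q) : col G p q' := by
  rw [col, e]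
  exact h

/-- The pointwise stabilizer of a point and its neighbours. -/
def QQ (G : Type*) {Ω : Type*} [Group G] [MulAction G Ω] (p : Ω) : Subgroup G where
  carrier := {g | g • p = p ∧ ∀ q, col G p q → g • q = q}
  one_mem' := ⟨one_smul _ _, fun _ _ => one_smul _ _⟩
  mul_mem' := fun {a b} ha hb => ⟨by rw [mul_smul, hb.1, ha.1], fun q hq => by
    rw [mul_smul, hb.2 q hq, ha.2 q hq]⟩
  inv_mem' := fun {a} ha => ⟨inv_smul_eq_iff.mpr ha.1.symm, fun q hq => inv_smul_eq_iff.mpr (ha.2 q hq).symm⟩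

theorem conj_mem_QQ {p : Ω} {x : G} (hx : x ∈ QQ G p) (g : G) : g * x * g⁻¹ ∈ QQ G (g • p) :=
  ⟨by rw [mul_smul, mul_smul, inv_smul_smul, hx.1], fun q hq => by
    have := hq.smul g⁻¹
    rw [inv_smul_smul] at this
    rw [mul_smul, mul_smul, hx.2 _ this, smul_inv_smul]⟩

theorem mem_QQ_smul {p : Ω} {x g : G} : x ∈ QQ G (g • p) ↔ g⁻¹ * x * g ∈ QQ G p :=
  ⟨fun h => by simpa using conj_mem_QQ h g⁻¹, fun h => by simpa [mul_assoc] using conj_mem_QQ h g⟩

theorem conj_mem_QQ' {p : Ω} {x g : G} (hx : x ∈ QQ G p) (hg : g • p = p) : g * x * g⁻¹ ∈ QQ G p := by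
  have := conj_mem_QQ hx g
  rwa [hg] at this

theorem card_QQ_smul (g : G) (p : Ω) : Nat.card (QQ G (g • p)) = Nat.card (QQ G p) := by
  rw [← card_map_of_injective (K := QQ G p) (f := (MulAut.conj g).toMonoidHom) (MulAut.conj g).injective]
  congr 2
  ext x
  rw [mem_QQ_smul, mem_map_conj_iff]

theorem QQ_le {p q : Ω} (h : col G p q) : QQ G p ≤ DD G p q := fun _ hx => ⟨hx.1, hx.2 q h⟩

/-- The elements of order at most two in the centre of `QQ G p`. -/
def ZZ (G : Type*) {Ω : Type*} [Group G] [MulAction G Ω] (p : Ω) : Subgroup G where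
  carrier := {z | z ∈ QQ G p ∧ z * z = 1 ∧ ∀ x ∈ QQ G p, Commute z x}
  one_mem' := ⟨one_mem _, one_mul _, fun x _ => Commute.one_left x⟩
  mul_mem' := fun {a b} ha hb => ⟨mul_mem ha.1 hb.1, by
    rw [mul_assoc, ← mul_assoc b, ← (ha.2.2 b hb.1).eq, mul_assoc, hb.2.1, mul_one, ha.2.1],
    fun x hx => (ha.2.2 x hx).mul_left (hb.2.2 x hx)⟩
  inv_mem' := fun {a} ha => ⟨inv_mem ha.1, by rw [← mul_inv_rev, ha.2.1, inv_one],
    fun x hx => (ha.2.2 x hx).inv_left⟩

theorem commute_conj_iff {x y : G} (c : G) : Commute (c * x * c⁻¹) y ↔ Commute x (c⁻¹ * y * c) :=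
  ⟨fun h => by simpa [mul_assoc] using h.map (MulAut.conj c⁻¹), fun h => by
    simpa [mul_assoc] using h.map (MulAut.conj c)⟩

theorem conj_mem_ZZ {p : Ω} {x : G} (hx : x ∈ ZZ G p) (g : G) : g * x * g⁻¹ ∈ ZZ G (g • p) :=
  ⟨conj_mem_QQ hx.1 g, by rw [conj_mul, hx.2.1, mul_one, mul_inv_cancel], fun y hy =>
    (commute_conj_iff g).mpr (hx.2.2 _ (mem_QQ_smul.mp hy))⟩

theorem mem_ZZ_smul {p : Ω} {x g : G} : x ∈ ZZ G (g • p) ↔ g⁻¹ * x * g ∈ ZZ G p :=
  ⟨fun h => by simpa using conj_mem_ZZ h g⁻¹, fun h => by simpa [mul_assoc] using conj_mem_ZZ h g⟩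

theorem conj_mem_ZZ' {p : Ω} {x g : G} (hx : x ∈ ZZ G p) (hg : g • p = p) : g * x * g⁻¹ ∈ ZZ G p := by
  have := conj_mem_ZZ hx g
  rwa [hg] at this

variable [Finite G]

theorem le_normalizer_of_conj {X Y : Subgroup G} (h : ∀ y ∈ Y, ∀ x ∈ X, y * x * y⁻¹ ∈ X) :
    Y ≤ normalizer (X : Set G) := fun y hy => mem_normalizer_fintype (h y hy)

theorem col.ne {p q : Ω} (h : col G p q) : p ≠ q := by
  rintro rfl
  have := Nat.card_pos (α := stabilizer G p)
  rw [col, DD, inf_idem] at h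
  omega

theorem col.gen {p q : Ω} (h : col G p q) {Y : Subgroup G} (hY : DD G p q ≤ Y) {g : G} (hg : g ∈ Y)
    (hp : g • p = p) (hq : g • q ≠ q) : stabilizer G p ≤ Y := by
  obtain ⟨m, hm⟩ := card_dvd_of_le (le_inf inf_le_left hY : DD G p q ≤ stabilizer G p ⊓ Y)
  obtain ⟨n, hn⟩ := card_dvd_of_le (inf_le_left : stabilizer G p ⊓ Y ≤ stabilizer G p)
  have h1 : m * n = 3 := Nat.eq_of_mul_eq_mul_left (Nat.card_pos (α := DD G p q))
    (by rw [← mul_assoc, ← hm, ← hn, h])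
  rcases (Nat.dvd_prime Nat.prime_three).mp (Dvd.intro _ h1) with rfl | rfl
  · have h2 := eq_of_le_of_card_ge (le_inf inf_le_left hY : DD G p q ≤ stabilizer G p ⊓ Y) (by omega)
    exact absurd (h2.ge ⟨hp, hg⟩).2 hq
  · exact inf_eq_left.mp (eq_of_le_of_card_ge inf_le_left (by rw [hn, show n = 1 by omega, mul_one]))

theorem col.ncard {p q : Ω} (h : col G p q) : {u | ∃ g ∈ stabilizer G p, g • q = u}.ncard = 3 :=
  Nat.eq_of_mul_eq_mul_left Nat.card_pos ((Pres.card_inf_stabilizer_mul _ q).trans (Eq.symm h))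

theorem col.exists_three {p q : Ω} (h : col G p q) : ∃ g₁ g₂ : G, g₁ • p = p ∧ g₂ • p = p ∧ q ≠ g₁ • q ∧
    q ≠ g₂ • q ∧ g₁ • q ≠ g₂ • q ∧ ∀ g : G, g • p = p → g • q = q ∨ g • q = g₁ • q ∨ g • q = g₂ • q := by
  have h0 : q ∈ {u | ∃ g ∈ stabilizer G p, g • q = u} := ⟨1, one_mem _, one_smul _ _⟩
  have h1 := Set.ncard_sdiff_singleton_add_one h0 (Set.finite_of_ncard_ne_zero (by rw [h.ncard]; decide))
  rw [h.ncard] at h1
  obtain ⟨u, v, huv, e⟩ := Set.ncard_eq_two.mp (Nat.add_right_cancel (m := 1) h1)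
  obtain ⟨⟨g₁, h1, rfl⟩, h2⟩ := e.ge (Set.mem_insert _ _)
  obtain ⟨⟨g₂, h3, rfl⟩, h4⟩ := e.ge (Set.mem_insert_of_mem _ rfl)
  exact ⟨g₁, g₂, h1, h3, Ne.symm h2, Ne.symm h4, huv, fun g hg =>
    (em (g • q = q)).imp_right fun h5 => e.le ⟨⟨g, hg, rfl⟩, h5⟩⟩

theorem col.swap {p q : Ω} (h : col G p q) {g g' d : G} (hg : g • p = p) (hg' : g' • p = p) (h1 : g • q ≠ q)
    (h2 : g' • q ≠ q) (h3 : g • q ≠ g' • q) (hd : d ∈ DD G p q) (h4 : d • g • q ≠ g • q) :
    d • g • q = g' • q := by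
  rcases swap_of_three h.ncard ⟨1, one_mem _, one_smul _ _⟩ ⟨g, hg, rfl⟩ ⟨g', hg', rfl⟩ h1.symm h2.symm h3
    ⟨d * g, mul_mem hd.1 hg, mul_smul _ _ _⟩ with e | e | e
  exacts [absurd (smul_left_cancel d (e.trans hd.2.symm)) h1, absurd e h4, e]

theorem col.fix {p q : Ω} (h : col G p q) {g d : G} (hg : g • p = p) (h1 : g • q ≠ q) (hd : d ∈ DD G p q)
    (h4 : d • g • q = g • q) {g' : G} (hg' : g' • p = p) : d • g' • q = g' • q := by
  by_contra h5
  have h2 : g' • q ≠ q := fun e => h5 (by rw [e, hd.2])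
  have h3 : g' • q ≠ g • q := fun e => h5 (by rw [e, h4])
  exact h3 (smul_left_cancel d ((h.swap hg' hg h2 h1 h3 hd h5).trans h4.symm))

theorem col.mul_fix {p q : Ω} (h : col G p q) {g d d' : G} (hg : g • p = p) (hd : d ∈ DD G p q)
    (hd' : d' ∈ DD G p q) (h1 : d • g • q ≠ g • q) (h2 : d' • g • q ≠ g • q) : d • d' • g • q = g • q := by
  have h3 : g • q ≠ q := fun e => h1 (by rw [e, hd.2])
  have h4 : (d' * g) • p = p := by rw [mul_smul, hg, hd'.1]
  have h5 : (d' * g) • q ≠ q := fun e => h3 (smul_left_cancel d' (by rw [← mul_smul, e, hd'.2]))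
  have h6 : (d' * g) • q ≠ g • q := by rwa [mul_smul]
  rw [← mul_smul d']
  exact h.swap h4 hg h5 h3 h6 hd fun e => h1 (h.fix h4 h5 hd e hg)

variable [FaithfulSMul G Ω] (hprim : IsPreprimitive G Ω)
include hprim

theorem isPGroup_DD {p q : Ω} (h : col G p q) : IsPGroup 2 (DD G p q) := by
  have key : ∀ {p q : Ω}, col G p q → stabilizer G p ≤ normalizer (Opp 2 (DD G p q) : Set G) := by
    intro p q h
    refine le_normalizer_Opp fun c hc v hv ho => ⟨?_, ?_⟩
    · exact (stabilizer G p).mul_mem (mul_mem hc hv.1) (inv_mem hc)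
    · have h1 : v ^ 2 ∈ stabilizer G (c⁻¹ • q) := by
        rw [mem_stabilizer_iff, pow_two, mul_smul]
        by_cases h2 : v • c⁻¹ • q = c⁻¹ • q
        · rw [h2, h2]
        · exact h.mul_fix (inv_smul_eq_iff.mpr (Eq.symm hc)) hv hv h2 h2
      have h2 : v ∈ stabilizer G (c⁻¹ • q) :=
        zpowers_le.mpr h1 (mem_zpowers_pow_iff.mpr (Nat.Coprime.symm ho))
      show (c * v * c⁻¹) • q = q
      rw [mul_smul, mul_smul, h2, smul_inv_smul]
  by_contra hn
  exact Opp_ne_bot hn (eq_bot_of_normalized_two hprim h.ne ((Opp_le _ _).trans inf_le_left) (key h)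
    (DD_comm (G := G) p q ▸ key h.symm))

theorem exists_conj {p q q' : Ω} (h : col G p q) (h' : col G p q') :
    ∃ g : G, g • p = p ∧ DD G p (g • q) = DD G p q' := by
  obtain ⟨k, hk⟩ := IsPGroup.iff_card.mp (isPGroup_DD hprim h)
  obtain ⟨g, hg, e⟩ := Pres.exists_conj_of_card (H := stabilizer G p) (Q := DD G p q') inf_le_left inf_le_left hk
    ((h.card_eq h').trans hk) (by
      rw [← h, hk, pow_succ, Nat.mul_dvd_mul_iff_left (by positivity)]; decide)
  exact ⟨g, hg, by rw [← e, ← DD_smul, mem_stabilizer_iff.mp hg]⟩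

theorem exists_conj' {p q p' q' : Ω} (h : col G p q) (h' : col G p' q') :
    ∃ g : G, g • p = p' ∧ DD G p' (g • q) = DD G p' q' := by
  obtain ⟨g, rfl⟩ := exists_smul_eq G p p'
  obtain ⟨g', h1, h2⟩ := exists_conj hprim (h.smul g) h'
  exact ⟨g' * g, by rw [mul_smul, h1], by rw [mul_smul, h2]⟩

theorem mem_QQ {p q : Ω} (h : col G p q) {x : G} (hp : x • p = p)
    (hx : ∀ g : G, g • p = p → x • g • q = g • q) : x ∈ QQ G p :=
  ⟨hp, fun _ h' =>
    let ⟨g, hg, e⟩ := exists_conj hprim h h'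
    (e.le ⟨hp, hx g hg⟩).2⟩

theorem le_QQ {p q : Ω} (h : col G p q) {N : Subgroup G} (hN : N ≤ DD G p q)
    (hn : ∀ g : G, g • p = p → ∀ x ∈ N, g * x * g⁻¹ ∈ N) : N ≤ QQ G p := fun x hx =>
  mem_QQ hprim h (hN hx).1 fun g hg => by
    have := (mem_DD.mp (hN (hn g⁻¹ (inv_smul_eq_iff.mpr hg.symm) x hx))).2
    rwa [inv_inv, mul_smul, mul_smul, inv_smul_eq_iff] at this

theorem mul_mem_QQ {p q : Ω} (h : col G p q) {d d' : G} (hd : d ∈ DD G p q) (hd' : d' ∈ DD G p q)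
    (h1 : d ∉ QQ G p) (h2 : d' ∉ QQ G p) : d * d' ∈ QQ G p := by
  obtain ⟨g, -, hg, -, h3, -⟩ := h.exists_three
  have h4 : ∀ d ∈ DD G p q, d • g • q = g • q → d ∈ QQ G p := fun d hd e =>
    mem_QQ hprim h hd.1 fun _ hg' => h.fix hg h3.symm hd e hg'
  exact h4 _ (mul_mem hd hd') (by rw [mul_smul, h.mul_fix hg hd hd' (mt (h4 d hd) h1) (mt (h4 d' hd') h2)])

theorem DD_eq {p q q' : Ω} (h : col G p q) (h' : col G p q') {s : G} (hs : s ∈ DD G p q) (hs' : s ∉ QQ G p)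
    (e : s • q' = q') : DD G p q = DD G p q' := by
  refine eq_of_le_of_card_ge (fun d hd => ?_)
    (h.card_eq h').le
  by_cases h1 : d ∈ QQ G p
  · exact QQ_le h' h1
  · exact (mul_mem_cancel_left (show s ∈ DD G p q' from ⟨hs.1, e⟩)).mp
      (QQ_le h' (mul_mem_QQ hprim h hs hd hs' h1))

theorem eq_one_of_central {p q : Ω} (hpq : p ≠ q) {z : G} (hp : ∀ g : G, g • p = p → Commute g z)
    (hq : ∀ g : G, g • q = q → Commute g z) (hz : z • p = p) : z = 1 := by
  have key : ∀ p : Ω, (∀ g : G, g • p = p → Commute g z) → stabilizer G p ≤ normalizer (zpowers z : Set G) :=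
    fun p hp => le_normalizer_of_conj fun g hg x ⟨k, hk⟩ => by
      rw [← hk, ((hp g hg).zpow_right k).eq, mul_inv_cancel_right]
      exact ⟨k, rfl⟩
  exact zpowers_eq_bot.mp (eq_bot_of_normalized_two hprim hpq (zpowers_le.mpr hz) (key p hp) (key q hq))

theorem smul_eq_of_commute {p : Ω} {z g : G} (hz1 : z ≠ 1) (hz : z • p = p)
    (hp : ∀ g : G, g • p = p → Commute g z) (hg : Commute g z) : g • p = p := by
  have key : centralizer {z} ≤ normalizer (zpowers z : Set G) := le_normalizer_of_conj fun g hg x ⟨k, hk⟩ => by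
    rw [← hk, (Commute.zpow_right (mem_centralizer_singleton_iff.mp hg) k).eq, mul_inv_cancel_right]
    exact ⟨k, rfl⟩
  exact normalizer_le_stabilizer hprim (mt zpowers_eq_bot.mp hz1) (zpowers_le.mpr hz)
    (fun g hg => key (mem_centralizer_singleton_iff.mpr (hp g hg))) (key (mem_centralizer_singleton_iff.mpr hg))

theorem eq_or_col {p q r : Ω} (h : col G p q) (hr : DD G p q ≤ stabilizer G r) :
    r = p ∨ DD G p r = DD G p q := by
  by_contra hn
  rw [not_or] at hn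
  obtain ⟨g, hg, hg'⟩ := SetLike.exists_of_lt (lt_of_le_of_ne (le_inf inf_le_left hr : DD G p q ≤ DD G p r)
    (Ne.symm hn.2))
  have h1 := stabilizer_eq_bot_of_eq hprim (Ne.symm hn.1)
    (stabilizer_eq_of_le (h.gen hr hg.2 hg.1 fun e => hg' ⟨hg.1, e⟩))
  exact hg' ((h1.le hg.1 : g = 1) ▸ one_mem _)

theorem exists_not_mem {p q : Ω} (h : col G p q) (hD : DD G p q ≠ ⊥) : ∃ s ∈ DD G p q, s ∉ QQ G p := by
  by_contra hn
  have h1 : QQ G p = DD G p q := le_antisymm (QQ_le h) fun s hs => by_contra fun hs' => hn ⟨s, hs, hs'⟩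
  obtain ⟨g, rfl⟩ := exists_smul_eq G p q
  have h2 : QQ G (g • p) = DD G p (g • p) := eq_of_le_of_card_ge (DD_comm (G := G) (g • p) p ▸ QQ_le h.symm)
    (by rw [card_QQ_smul, h1])
  refine hD (eq_bot_of_normalized_two hprim h.ne inf_le_left ?_ ?_)
  · rw [← h1]
    exact le_normalizer_of_conj fun y hy x hx => conj_mem_QQ' hx hy
  · rw [← h2]
    exact le_normalizer_of_conj fun y hy x hx => conj_mem_QQ' hx hy

theorem card_DD {p q : Ω} (h : col G p q) (hD : DD G p q ≠ ⊥) : Nat.card (QQ G p) * 2 = Nat.card (DD G p q) := by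
  obtain ⟨s, hs, hs'⟩ := exists_not_mem hprim h hD
  rw [← card_mul_relIndex_of_le (QQ_le h), relIndex_eq_two_iff_exists_notMem_and'.mpr
    ⟨s, hs, hs', fun d hd => (em (d ∈ QQ G p)).symm.imp_left (mul_mem_QQ hprim h hs hd hs')⟩]

theorem exists_other {p q : Ω} (h : col G p q) (hD : DD G p q ≠ ⊥) : ∃ r, col G p r ∧ DD G p r ≠ DD G p q := by
  obtain ⟨s, hs, hs'⟩ := exists_not_mem hprim h hD
  by_contra hn
  exact hs' ⟨hs.1, fun r hr => ((not_not.mp fun e => hn ⟨r, hr, e⟩ : DD G p r = DD G p q).ge hs).2⟩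

omit [FaithfulSMul G Ω] hprim in
theorem gen_two {p q r : Ω} (h : col G p q) (h' : col G p r) (hne : DD G p r ≠ DD G p q) {Y : Subgroup G}
    (h1 : DD G p q ≤ Y) (h2 : DD G p r ≤ Y) : stabilizer G p ≤ Y := by
  obtain ⟨g, hg, hg'⟩ := SetLike.not_le_iff_exists.mp fun hle : DD G p r ≤ DD G p q => hne
    (eq_of_le_of_card_ge hle (h'.card_eq h).le)
  exact h.gen h1 (h2 hg) hg.1 fun e => hg' ⟨hg.1, e⟩

end Cfsg.Agent.Perm2.Sims
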