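import Cfsg.Agent.Perm2.Sims1

/-! Primitive groups with a suborbit of length three: the constrained case. -/

set_option autoImplicit false

namespace Cfsg.Agent.Perm2.Sims

open MulAction Subgroup

variable {G Ω : Type*} [Group G] [MulAction G Ω]

/-- Walks of given length. -/
inductive Near (G : Type*) {Ω : Type*} [Group G] [MulAction G Ω] : ℕ → Ω → Ω → Prop
  | zero (p : Ω) : Near G 0 p p
  | snoc {n : ℕ} {p q r : Ω} : Near G n p q → col G q r → Near G (n + 1) p r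

theorem Near.cons {n : ℕ} {p q r : Ω} (h : col G p q) (h' : Near G n q r) : Near G (n + 1) p r := by
  induction h' with
  | zero => exact (Near.zero p).snoc h
  | snoc _ h2 ih => exact (ih h).snoc h2

theorem Near.symm [IsPretransitive G Ω] {n : ℕ} {p q : Ω} (h : Near G n p q) : Near G n q p := by
  induction h with
  | zero => exact Near.zero _
  | snoc _ h2 ih => exact ih.cons h2.symm

theorem Near.smul {n : ℕ} {p q : Ω} (h : Near G n p q) (g : G) : Near G n (g • p) (g • q) := by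
  induction h with
  | zero => exact Near.zero _
  | snoc _ h2 ih => exact ih.snoc (h2.smul g)

theorem Near.unsnoc {n : ℕ} {p r : Ω} (h : Near G (n + 1) p r) : ∃ q, Near G n p q ∧ col G q r := by
  cases h with
  | snoc h1 h2 => exact ⟨_, h1, h2⟩

/-- `z` centralizes the stabilizer of `p` and `q`. -/
def Cent (z : G) (p q : Ω) : Prop := ∀ d ∈ DD G p q, Commute d z

/-- `z` centralizes the stabilizer of `p`. -/
def Cen (z : G) (p : Ω) : Prop := ∀ g : G, g • p = p → Commute g z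

theorem Cen.cent {z : G} {p : Ω} (h : Cen z p) (q : Ω) : Cent z p q := fun d hd => h d hd.1

theorem Cent.symm {z : G} {p q : Ω} (h : Cent z p q) : Cent z q p := fun d hd => h d ⟨hd.2, hd.1⟩

theorem Cent.of_eq {z : G} {p q p' q' : Ω} (h : Cent z p q) (e : DD G p' q' = DD G p q) : Cent z p' q' :=
  fun d hd => h d (e.le hd)

theorem Cent.conj {z : G} {p q : Ω} (h : Cent z p q) (g : G) : Cent (g * z * g⁻¹) (g • p) (g • q) :=
  fun _ hd => ((commute_conj_iff g).mpr (h _ (mem_DD_smul.mp hd)).symm).symm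

theorem Cen.conj {z : G} {p : Ω} (h : Cen z p) (g : G) : Cen (g * z * g⁻¹) (g • p) :=
  fun _ hd => ((commute_conj_iff g).mpr (h _ (stab_smul_mem_iff g _ p |>.mp hd)).symm).symm

theorem cen_of_two [Finite G] {z : G} {p q r : Ω} (h : col G p q) (h' : col G p r) (hne : DD G p r ≠ DD G p q)
    (h1 : Cent z p q) (h2 : Cent z p r) : Cen z p := fun _ hg => mem_centralizer_singleton_iff.mp
  (gen_two h h' hne (Y := centralizer {z}) (fun d hd => mem_centralizer_singleton_iff.mpr (h1 d hd))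
    (fun d hd => mem_centralizer_singleton_iff.mpr (h2 d hd)) hg)

theorem cen_of_gen [Finite G] {z g : G} {p q : Ω} (h : col G p q) (h1 : Cent z p q) (hg : Commute g z)
    (hp : g • p = p) (hq : g • q ≠ q) : Cen z p := fun _ hx => mem_centralizer_singleton_iff.mp
  (h.gen (Y := centralizer {z}) (fun d hd => mem_centralizer_singleton_iff.mpr (h1 d hd))
    (mem_centralizer_singleton_iff.mpr hg) hp hq hx)

/-- The centre of the two-point stabilizer has index at most two in `ZZ G p`. -/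
def II (G : Type*) {Ω : Type*} [Group G] [MulAction G Ω] (p q : Ω) : Prop :=
  ∀ z ∈ ZZ G p, ∀ z' ∈ ZZ G p, ¬ Cent z p q → ¬ Cent z' p q → Cent (z * z') p q

theorem ZZ_comm {p : Ω} {z z' : G} (h : z ∈ ZZ G p) (h' : z' ∈ ZZ G p) : Commute z z' := h.2.2 _ h'.1

theorem ZZ_inv {p : Ω} {z : G} (h : z ∈ ZZ G p) : z⁻¹ = z := inv_eq_of_mul_eq_one_right h.2.1

/-- The constrained case. -/
structure Con (G Ω : Type*) [Group G] [MulAction G Ω] : Prop where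
  prim : IsPreprimitive G Ω
  ne : ∀ p q : Ω, col G p q → DD G p q ≠ ⊥
  ex : ∀ p : Ω, ∃ q, col G p q
  con : ∀ (p : Ω) (g : G), g • p = p → (∀ x ∈ QQ G p, Commute g x) → g ∈ QQ G p

namespace Con

variable [Finite G] [FaithfulSMul G Ω] (c : Con G Ω)
include c

theorem mem_ZZ {p q : Ω} (h : col G p q) {z : G} (hz : z • p = p) (h2 : z * z = 1) (hc : Cent z p q) :
    z ∈ ZZ G p :=
  have h1 : ∀ x ∈ QQ G p, Commute z x := fun x hx => (hc x (QQ_le h hx)).symm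
  ⟨c.con p z hz h1, h2, h1⟩

theorem exists_central {p q : Ω} (h : col G p q) : ∃ z ∈ DD G p q, z ≠ 1 ∧ z * z = 1 ∧ Cent z p q := by
  obtain ⟨k, hk⟩ := IsPGroup.iff_card.mp (isPGroup_DD c.prim h)
  rcases k with _ | k
  · exact absurd (card_eq_one.mp hk) (c.ne p q h)
  obtain ⟨z, hz, h1, h2⟩ := M11.exists_central_involution hk
  exact ⟨z, hz, by rintro rfl; simp at h1, by rw [← pow_two, ← h1, pow_orderOf_eq_one], h2⟩

theorem cent {p : Ω} {g : G} (hp : g • p = p) (hg : ∀ z ∈ ZZ G p, Commute g z) : g ∈ QQ G p := by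
  have := c.prim
  by_contra hn
  have key : ∀ (p q : Ω) (g : G), g • p = p → (∀ z ∈ ZZ G p, Commute g z) → g ∉ QQ G p → col G p q →
      ∀ z : G, z • p = p → z * z = 1 → Cent z p q → Cen z p := by
    intro p q g hp hg hn h z hz h2 hc
    by_cases h1 : stabilizer G p ⊓ centralizer (ZZ G p : Set G) ≤ DD G p q
    · refine absurd (le_QQ c.prim h h1 (fun y hy x hx => ⟨(stabilizer G p).mul_mem
        ((stabilizer G p).mul_mem hy hx.1) ((stabilizer G p).inv_mem hy),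
        fun w hw => ?_⟩) ⟨hp, fun w hw => (hg w hw).symm⟩) hn
      refine ((commute_conj_iff y).mpr (Commute.symm (hx.2 _ (mem_ZZ_smul.mp ?_)))).symm
      rwa [hy]
    · obtain ⟨x, hx, hx'⟩ := SetLike.not_le_iff_exists.mp h1
      exact cen_of_gen h hc (Commute.symm (hx.2 z (c.mem_ZZ h hz h2 hc))) hx.1 fun e => hx' ⟨hx.1, e⟩
  obtain ⟨q, h⟩ := c.ex p
  obtain ⟨z, hz, h1, h2, h3⟩ := c.exists_central h
  obtain ⟨y, rfl⟩ := exists_smul_eq G p q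
  refine h1 (eq_one_of_central c.prim h.ne (key p _ g hp hg hn h z hz.1 h2 h3)
    (key _ p (y * g * y⁻¹) (by rw [mul_smul, mul_smul, inv_smul_smul, hp]) (fun w hw =>
      (commute_conj_iff y).mpr (hg _ (mem_ZZ_smul.mp hw))) (fun e => hn ?_) h.symm z hz.2 h2 h3.symm) hz.1)
  simpa [mul_assoc] using mem_QQ_smul.mp e

theorem cent_of {p q : Ω} (h : col G p q) {s z : G} (hs : s ∈ DD G p q) (hs' : s ∉ QQ G p) (hz : z ∈ ZZ G p)
    (hc : Commute s z) : Cent z p q := fun d hd => by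
  by_cases h1 : d ∈ QQ G p
  · exact (hz.2.2 d h1).symm
  · have h2 := hc.inv_left.mul_left (hz.2.2 _ (mul_mem_QQ c.prim h hs hd hs' h1)).symm
    rwa [inv_mul_cancel_left] at h2

theorem exists_noncomm {p : Ω} {a : G} (hp : a • p = p) (ha : a ∉ QQ G p) : ∃ z ∈ ZZ G p, ¬ Commute a z := by
  by_contra hn
  exact ha (c.cent hp fun z hz => by_contra fun h => hn ⟨z, hz, h⟩)

theorem II_all {p q : Ω} (h : col G p q) (hI : II G p q) {p' q' : Ω} (h' : col G p' q') : II G p' q' := by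
  obtain ⟨g, rfl, e⟩ := exists_conj' c.prim h h'
  intro z hz z' hz' h1 h2
  have h3 : ∀ z : G, Cent (g⁻¹ * z * g) p q ↔ Cent z (g • p) q' := fun z =>
    ⟨fun h => by simpa [mul_assoc] using (h.conj g).of_eq e.symm, fun h => by
      simpa using (h.of_eq e).conj g⁻¹⟩
  have h4 := hI _ (mem_ZZ_smul.mp hz) _ (mem_ZZ_smul.mp hz') (mt (h3 z).mp h1) (mt (h3 z').mp h2)
  rw [← h3]
  simpa [mul_assoc] using h4

theorem II_of_crit {α β α' γ : Ω} (h : col G α β) (h' : col G α' γ) (h1 : ZZ G α ≤ DD G α' γ) {a' : G}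
    (ha' : a' ∈ ZZ G α') (h2 : a' ∈ DD G α β) (h3 : a' ∉ QQ G α) : II G α β := by
  have h4 : ∀ z ∈ ZZ G α, z ∈ QQ G α' → Cent z α β := fun z hz hz' => c.cent_of h h2 h3 hz (ha'.2.2 z hz')
  exact fun z hz z' hz' h5 h6 => h4 _ (mul_mem hz hz')
    (mul_mem_QQ c.prim h' (h1 hz) (h1 hz') (mt (h4 z hz) h5) (mt (h4 z' hz') h6))

theorem not_cent {p q r : Ω} (h : col G p q) (h' : col G p r) (hne : DD G p r ≠ DD G p q) {z : G} (hz1 : z ≠ 1)
    (hz : z • q = q) (hc : Cen z q) : ¬ Cent z p r := fun h1 =>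
  hz1 (eq_one_of_central c.prim h.ne.symm hc (cen_of_two h h' hne (hc.cent p).symm h1) hz)

theorem cen_unique (hI : ∀ p q : Ω, col G p q → II G p q) {p : Ω} {z z' : G} (hz1 : z ≠ 1) (hz : z • p = p)
    (h2 : z * z = 1) (hc : Cen z p) (hz1' : z' ≠ 1) (hz' : z' • p = p) (h2' : z' * z' = 1) (hc' : Cen z' p) :
    z = z' := by
  have := c.prim
  obtain ⟨q, h⟩ := c.ex p
  obtain ⟨r, hr, hne⟩ := exists_other c.prim h.symm (c.ne _ _ h.symm)
  have h3 : ∀ z : G, z • p = p → z * z = 1 → Cen z p → z ∈ ZZ G q := fun z hz h2 hc =>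
    c.mem_ZZ h.symm ((c.mem_ZZ h hz h2 (hc.cent q)).1.2 q h) h2 (hc.cent q).symm
  by_contra hn
  refine c.not_cent h.symm hr hne (z := z * z') (fun e => hn ?_) (by rw [mul_smul, hz', hz])
    (fun g hg => (hc g hg).mul_right (hc' g hg)) (hI q r hr z (h3 z hz h2 hc) z' (h3 z' hz' h2' hc')
      (c.not_cent h.symm hr hne hz1 hz hc) (c.not_cent h.symm hr hne hz1' hz' hc'))
  rw [← mul_one z, ← h2', ← mul_assoc, e, one_mul]

theorem comm_unique {p q : Ω} (h : col G p q) (hI : II G p q) {z z' d d' : G} (hz : z ∈ ZZ G p)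
    (hz' : z' ∈ ZZ G p) (hd : d ∈ DD G p q) (hd' : d' ∈ DD G p q) (h1 : ¬ Commute d z) (h2 : ¬ Commute d' z') :
    z * (d * z * d⁻¹) = z' * (d' * z' * d'⁻¹) := by
  have h3 := (hI z hz z' hz' (fun e => h1 (e d hd)) (fun e => h2 (e d' hd')) d hd).eq
  have h4 := (hz'.2.2 _ (mul_mem_QQ c.prim h (inv_mem hd') hd (fun e => h2 (hz'.2.2 _
    (inv_mem_iff.mp e)).symm) fun e => h1 (hz.2.2 _ e).symm)).eq
  have h5 : d * z' * d⁻¹ = d' * z' * d'⁻¹ := by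
    calc d * z' * d⁻¹ = d' * (d'⁻¹ * d * z') * d⁻¹ := by group
      _ = d' * z' * d'⁻¹ := by rw [← h4]; group
  have h6 := (ZZ_comm hz' (conj_mem_ZZ' hz' hd.1)).eq
  calc z * (d * z * d⁻¹) = z * (d * (z * z') * (z' * z')⁻¹ * z' * d⁻¹) := by group
    _ = z * (z * z' * d * z' * d⁻¹) := by rw [h3, hz'.2.1]; group
    _ = z' * (d' * z' * d'⁻¹) := by rw [← h5, ← mul_assoc, ← mul_assoc, ← mul_assoc, ← mul_assoc, hz.2.1]; group

theorem exists_crit (p : Ω) : ∃ n : ℕ, ∃ p q : Ω, Near G n p q ∧ ¬ ZZ G p ≤ QQ G q := by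
  have := c.prim
  by_contra hn
  push Not at hn
  let W : Ω → Subgroup G := fun p => ⨅ r ∈ {r | ∃ n, Near G n p r}, stabilizer G r
  have h1 : ∀ p, stabilizer G p ≤ normalizer (W p : Set G) := fun p => le_normalizer_of_conj fun g hg x hx => by
    simp only [W, mem_iInf] at hx ⊢
    rintro r ⟨n, hr⟩
    have h2 := hr.smul g⁻¹
    rw [mem_stabilizer_iff.mp (inv_mem hg)] at h2
    rw [mem_stabilizer_iff, mul_smul, mul_smul, hx _ ⟨n, h2⟩, smul_inv_smul]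
  obtain ⟨q, h⟩ := c.ex p
  have h2 : W q = W p := by
    have h2 : {r | ∃ n, Near G n q r} = {r | ∃ n, Near G n p r} :=
      Set.ext fun r => ⟨fun ⟨_, hr⟩ => ⟨_, hr.cons h⟩, fun ⟨_, hr⟩ => ⟨_, hr.cons h.symm⟩⟩
    simp only [W, h2]
  have h3 := eq_bot_of_normalized_two c.prim h.ne (X := W p) (biInf_le _ ⟨0, Near.zero p⟩) (h1 p) (h2 ▸ h1 q)
  obtain ⟨z, hz, h4, h5, h6⟩ := c.exists_central h
  exact h4 (h3.le (mem_iInf.mpr fun r => mem_iInf.mpr fun ⟨n, hr⟩ => (hn n p r hr (c.mem_ZZ h hz.1 h5 h6)).1))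

theorem exists_next {α β α' γ : Ω} (h : col G α β) (h' : col G α' γ) {a a' : G} (ha : a ∈ ZZ G α)
    (haD : a ∈ DD G α' γ) (haQ : a ∉ QQ G α') (ha' : a' ∈ ZZ G α') (h2 : a' ∈ DD G α β) (h3 : a' ∉ QQ G α) :
    ∃ r, col G α r ∧ DD G α r ≠ DD G α β ∧ ¬ ZZ G r ≤ QQ G γ := by
  have := c.prim
  by_contra hn
  push Not at hn
  let PP : Ω → Ω → Prop := fun p q => ∀ r, col G p r → DD G p r = DD G p q →
    ∀ g : G, g • p = p → ∀ t ∈ QQ G p ⊓ QQ G r, g * t * g⁻¹ ∈ QQ G r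
  obtain ⟨r0, hr0, hne⟩ := exists_other c.prim h (c.ne _ _ h)
  have h4 : PP α r0 := by
    intro r hr e g hg t ht
    have h5 : stabilizer G α ≤ normalizer ((QQ G α ⊓ QQ G r : Subgroup G) : Set G) := by
      refine hr.gen (le_normalizer_of_conj fun d hd t ht => ⟨conj_mem_QQ' ht.1 hd.1, conj_mem_QQ' ht.2 hd.2⟩)
        (g := a') (mem_normalizer_fintype fun t ht => ⟨conj_mem_QQ' ht.1 h2.1, ?_⟩) h2.1
        fun e' => hne (e.symm.trans (DD_eq c.prim h hr h2 h3 e').symm)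
      refine c.cent ((conj_mem_QQ' ht.1 h2.1).2 r hr) fun z hz => (commute_conj_iff a').mpr ?_
      have hzD : z ∈ DD G α' γ := DD_comm (G := G) γ α' ▸ QQ_le h'.symm (hn r hr (e ▸ hne) hz)
      by_cases h6 : z ∈ QQ G α'
      · rw [mul_assoc, ← (ha'.2.2 z h6).eq, inv_mul_cancel_left]
        exact (hz.2.2 t ht.2).symm
      · have h7 := (ha'.2.2 _ (mul_mem_QQ c.prim h' haD hzD haQ h6)).eq
        have h8 : a'⁻¹ * z * a' = (a'⁻¹ * a * a'⁻¹⁻¹)⁻¹ * a * z := by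
          calc a'⁻¹ * z * a' = a'⁻¹ * a⁻¹ * (a * z * a') := by group
            _ = _ := by rw [← h7]; group
        rw [h8]
        exact (((conj_mem_ZZ' ha (inv_smul_eq_iff.mpr h2.1.symm)).2.2 t ht.1).symm.inv_right.mul_right
          (ha.2.2 t ht.1).symm).mul_right (hz.2.2 t ht.2).symm
    exact ((mem_normalizer_iff.mp (h5 hg) t).mp ht).2
  have h5 : ∀ p q, col G p q → PP p q := by
    intro p q hpq r hr e g hg t ht
    obtain ⟨y, rfl, e'⟩ := exists_conj' c.prim hr0 hpq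
    obtain ⟨r, rfl⟩ := MulAction.surjective y r
    have h6 := DD_smul_congr y⁻¹ (e.trans e'.symm)
    have h7 := hr.smul y⁻¹
    simp only [inv_smul_smul] at h6 h7
    have h8 := h4 r h7 h6 _ ((stab_smul_mem_iff y g α).mp hg) (y⁻¹ * t * y)
      (mem_inf.mpr ⟨mem_QQ_smul.mp (mem_inf.mp ht).1, mem_QQ_smul.mp (mem_inf.mp ht).2⟩)
    rw [mem_QQ_smul]
    simpa [mul_assoc] using h8
  let I : Subgroup G := ⨅ (r : Ω) (_ : DD G α β ≤ stabilizer G r), QQ G r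
  have hI : ∀ p q : Ω, col G p q → DD G p q = DD G α β → ∀ g : G, g • p = p → ∀ t ∈ QQ G p,
      (∀ r, col G p r → DD G p r = DD G p q → g * t * g⁻¹ ∈ QQ G r) → g * t * g⁻¹ ∈ I := by
    intro p q hpq e g hg t ht h6
    refine mem_iInf.mpr fun r => mem_iInf.mpr fun hr => ?_
    rcases eq_or_col c.prim hpq (e ▸ hr) with rfl | e'
    exacts [conj_mem_QQ' ht hg, h6 r (hpq.of_eq e') e']
  have hN : ∀ p q : Ω, col G p q → DD G p q = DD G α β → stabilizer G p ≤ normalizer (I : Set G) :=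
    fun p q hpq e => le_normalizer_of_conj fun g hg t ht => by
      have h6 : ∀ r : Ω, DD G p q ≤ stabilizer G r → t ∈ QQ G r := fun r hr =>
        mem_iInf.mp (mem_iInf.mp ht r) (e ▸ hr)
      exact hI p q hpq e g hg t (h6 p inf_le_left) fun r hr e' => h5 p q hpq r hr e' g hg t
        ⟨h6 p inf_le_left, h6 r (e' ▸ inf_le_right)⟩
  have h6 := eq_bot_of_normalized_two c.prim h.ne (X := I) (fun x hx => (mem_iInf.mp (mem_iInf.mp hx α) inf_le_left).1)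
    (hN α β h rfl) (hN β α h.symm (DD_comm _ _))
  refine h3 (c.con α a' h2.1 fun t ht => ?_)
  have h7 := hI α β h rfl 1 (one_smul _ _) (a' * t * a'⁻¹ * t⁻¹) (mul_mem (conj_mem_QQ' ht h2.1) (inv_mem ht))
    fun r hr e => by
      rw [one_mul, inv_one, mul_one]
      by_cases h7 : t ∈ QQ G r
      · exact mul_mem (h5 α β h r hr e a' h2.1 t ⟨ht, h7⟩) (inv_mem h7)
      · refine mul_mem_QQ c.prim hr.symm (DD_comm (G := G) α r ▸ QQ_le hr (conj_mem_QQ' ht h2.1))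
          (DD_comm (G := G) α r ▸ QQ_le hr (inv_mem ht)) (fun h8 => h7 ?_) (by rwa [inv_mem_iff])
        simpa [mul_assoc] using h5 α β h r hr e a'⁻¹ (inv_smul_eq_iff.mpr h2.1.symm) _
          ⟨conj_mem_QQ' ht h2.1, h8⟩
  rw [h6, mem_bot, one_mul, inv_one, mul_one, mul_inv_eq_one, mul_inv_eq_iff_eq_mul] at h7
  exact h7

theorem comm_facts {α β α' : Ω} (h : col G α β) {a a' : G} (ha : a ∈ ZZ G α) (haD : a • α' = α')
    (ha' : a' ∈ ZZ G α') (h2 : a' ∈ DD G α β) (hn : ¬ Commute a a') :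
    a * (a' * a * a'⁻¹) ≠ 1 ∧ a * (a' * a * a'⁻¹) = a' * (a * a' * a⁻¹) ∧ a * (a' * a * a'⁻¹) ∈ ZZ G α ∧
      a * (a' * a * a'⁻¹) ∈ ZZ G α' ∧ Cent (a * (a' * a * a'⁻¹)) α β := by
  have h1 : a * (a' * a * a'⁻¹) = a' * (a * a' * a⁻¹) := by
    rw [(ZZ_comm ha' (conj_mem_ZZ' ha' haD)).eq, ZZ_inv ha, ZZ_inv ha']
    group
  have h3 := mul_mem ha (conj_mem_ZZ' ha h2.1)
  have h4 := h1 ▸ mul_mem ha' (conj_mem_ZZ' ha' haD)
  refine ⟨fun e => hn ?_, h1, h3, h4, c.cent_of h h2 (fun e => hn (ha.2.2 _ e)) h3 (ZZ_comm ha' h4)⟩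
  rw [mul_eq_one_iff_inv_eq, ZZ_inv ha, eq_mul_inv_iff_mul_eq] at e
  exact e

theorem far_data (H1 : ∀ p q : Ω, col G p q → ZZ G p ≤ QQ G q) (p : Ω) :
    (∀ p q : Ω, col G p q → II G p q) ∧ ∃ (α γ α' : Ω) (s s' : G), col G α γ ∧ col G γ α' ∧
      ¬ ZZ G α ≤ QQ G α' ∧ s ≠ 1 ∧ s ∈ ZZ G γ ∧ Cen s γ ∧ s' ≠ 1 ∧ s' ∈ ZZ G α ∧ Cen s' α ∧
      (∃ z ∈ ZZ G α, ∃ d ∈ DD G α γ, s = z * (d * z * d⁻¹)) ∧
      ∃ z ∈ ZZ G γ, ∃ d ∈ DD G γ α, s' = z * (d * z * d⁻¹) := by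
  classical
  have := c.prim
  have hex := c.exists_crit p
  obtain ⟨α, α', hN, hZ⟩ := Nat.find_spec hex
  have hmin : ∀ m < Nat.find hex, ∀ p q : Ω, Near G m p q → ZZ G p ≤ QQ G q := fun m hm p q h =>
    by_contra fun h' => Nat.find_min hex hm ⟨p, q, h, h'⟩
  generalize Nat.find hex = n at hN hmin
  rcases n with _ | n
  · cases hN
    exact absurd (fun z hz => hz.1) hZ
  obtain ⟨γ, hγ, h'⟩ := hN.unsnoc
  rcases n with _ | n
  · cases hγ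
    exact absurd (H1 _ _ h') hZ
  obtain ⟨γ', hγ', h''⟩ := hγ.unsnoc
  obtain ⟨β, hβ, h⟩ := hγ.symm.unsnoc
  replace h := h.symm
  obtain ⟨a, ha, haQ⟩ := SetLike.not_le_iff_exists.mp hZ
  have h1 : ZZ G α ≤ DD G α' γ := (hmin _ (Nat.lt_succ_self _) _ _ hγ).trans
    (DD_comm (G := G) γ α' ▸ QQ_le h')
  have h2 : ZZ G α' ≤ DD G α β := (hmin _ (Nat.lt_succ_self _) _ _ (hβ.cons h'.symm)).trans
    (DD_comm (G := G) β α ▸ QQ_le h.symm)
  obtain ⟨a', ha', hn⟩ := c.exists_noncomm (h1 ha).1 haQ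
  have ha'Q : a' ∉ QQ G α := fun e => hn (ha.2.2 _ e)
  refine ⟨fun p q hpq => c.II_all h (c.II_of_crit h h'.symm h1 ha' (h2 ha') ha'Q) hpq, ?_⟩
  obtain ⟨r, hr, hne, hZ'⟩ := c.exists_next h h'.symm ha (h1 ha) haQ ha' (h2 ha') ha'Q
  obtain ⟨b, hb, hbQ⟩ := SetLike.not_le_iff_exists.mp hZ'
  have hbD : b ∈ DD G γ γ' := DD_comm (G := G) γ' γ ▸ QQ_le h''
    (hmin _ (Nat.lt_succ_self _) _ _ (hγ'.cons hr.symm) hb)
  obtain ⟨b', hb', hn'⟩ := c.exists_noncomm hbD.1 hbQ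
  have hb'D : b' ∈ DD G r α := DD_comm (G := G) α r ▸ QQ_le hr (hmin _ (Nat.lt_succ_self _) _ _ hγ.symm hb')
  obtain ⟨c1, c2, c3, c4, c5⟩ := c.comm_facts h ha (h1 ha).1 ha' (h2 ha') hn
  obtain ⟨-, -, -, -, c6⟩ := c.comm_facts h'.symm ha' (h2 ha').1 ha (h1 ha) fun e => hn e.symm
  obtain ⟨d1, d2, d3, d4, d5⟩ := c.comm_facts hr.symm hb hbD.1 hb' hb'D hn'
  rw [← c2] at c6
  have e1 : Cen (b * (b' * b * b'⁻¹)) α := cen_of_gen hr d5.symm (ha'.2.2 _ (H1 _ _ h' d4)) (h2 ha').1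
    fun e => hne (DD_eq c.prim h hr (h2 ha') ha'Q e).symm
  have e2 : Cen (a * (a' * a * a'⁻¹)) γ := by
    refine cen_of_gen h' c6.symm (c3.2.2 _ (H1 _ _ hr.symm hb)).symm hbD.1 fun e => hZ ?_
    have h3 := DD_eq c.prim h''.symm h' hbD hbQ e
    rcases eq_or_col c.prim h'' (r := α') (DD_comm (G := G) γ γ' ▸ h3 ▸ inf_le_right) with rfl | e'
    · exact hmin _ (by omega) _ _ hγ'
    · exact hmin _ (Nat.lt_succ_self _) _ _ (hγ'.snoc (h''.of_eq e'))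
  have e3 : (a * (a' * a * a'⁻¹)) • γ = γ := (h1 c3).2
  have e4 : DD G α β ≤ stabilizer G γ := fun d hd => smul_eq_of_commute c.prim c1 e3 e2 (c5 d hd)
  rcases eq_or_col c.prim h e4 with rfl | e5
  · exact absurd (H1 _ _ h') hZ
  have e6 := h.of_eq e5
  exact ⟨α, γ, α', _, _, e6, h', hZ, c1, c.mem_ZZ e6.symm e3 c3.2.1 (e2.cent α), e2, d1,
    c.mem_ZZ hr (H1 _ _ hr.symm d3).1 d3.2.1 (e1.cent r), e1, ⟨a, ha, a', e5.ge (h2 ha'), rfl⟩,
    b', hb', b, ⟨hbD.1, (H1 _ _ hr.symm hb).1⟩, d2⟩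

theorem exists_near (p : Ω) : ∃ p q : Ω, col G p q ∧ ¬ ZZ G p ≤ QQ G q := by
  have := c.prim
  by_contra H1
  push Not at H1
  obtain ⟨hI, α, γ, α', s, s', h, h', hZ, s1, s2, s3, s1', s2', s3', ⟨z, hz, d, hd, e⟩, z', hz', d', hd', e'⟩ :=
    c.far_data H1 p
  have h1 : ∀ p : Ω, ∃ t : G, t ≠ 1 ∧ t ∈ ZZ G p ∧ Cen t p := fun p => by
    obtain ⟨g, rfl⟩ := exists_smul_eq G γ p
    exact ⟨_, by simpa using s1, conj_mem_ZZ s2 g, s3.conj g⟩
  choose ρ ρ1 ρ2 ρ3 using h1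
  have hu : ∀ (p : Ω) (t : G), t ≠ 1 → t • p = p → t * t = 1 → Cen t p → t = ρ p := fun p t h1 h2 h3 h4 =>
    c.cen_unique hI h1 h2 h3 h4 (ρ1 p) (ρ2 p).1.1 (ρ2 p).2.1 (ρ3 p)
  have hsm : ∀ (g : G) (p : Ω), g * ρ p * g⁻¹ = ρ (g • p) := fun g p =>
    hu _ _ (by simpa using ρ1 p) (conj_mem_ZZ (ρ2 p) g).1.1 (conj_mem_ZZ (ρ2 p) g).2.1 ((ρ3 p).conj g)
  have hfix : ∀ (g : G) (p : Ω), Commute g (ρ p) → g • p = p := fun g p =>
    smul_eq_of_commute c.prim (ρ1 p) (ρ2 p).1.1 (ρ3 p)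
  have hinj : ∀ p q, ρ p = ρ q → p = q := fun p q e => by_contra fun hne =>
    ρ1 p (eq_one_of_central c.prim hne (ρ3 p) (e ▸ ρ3 q) (ρ2 p).1.1)
  have hZq : ∀ p q, col G p q → ρ p ∈ ZZ G q := fun p q h =>
    c.mem_ZZ h.symm ((ρ2 p).1.2 q h) (ρ2 p).2.1 ((ρ3 p).cent q).symm
  have hnc : ∀ {z d : G} {p : Ω}, z ∈ ZZ G p → z * (d * z * d⁻¹) ≠ 1 → ¬ Commute d z := fun hz h1 h2 =>
    h1 (by rw [h2.eq, mul_inv_cancel_right, hz.2.1])
  obtain ⟨n, n1, n2⟩ := exists_conj' c.prim h h.symm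
  have n3 : n • γ = α := by
    refine hinj _ _ ?_
    rw [← hsm, ← hu _ s s1 s2.1.1 s2.2.1 s3, ← hu _ s' s1' s2'.1.1 s2'.2.1 s3', e', e, ← conj_mul]
    have h1 : n * d * n⁻¹ ∈ DD G γ α := by
      have h1 : n * d * n⁻¹ ∈ DD G (n • α) (n • γ) := mem_DD_smul.mpr (by simpa [mul_assoc] using hd)
      rwa [n1, n2] at h1
    rw [← c.comm_unique h.symm (hI _ _ h.symm) (n1 ▸ conj_mem_ZZ hz n) hz' h1 hd' (fun h2 => hnc hz (e ▸ s1) (by
      simpa [mul_assoc] using h2.map (MulAut.conj n⁻¹))) (hnc hz' (e' ▸ s1'))]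
    group
  have k0 : ∀ δ, col G α δ → DD G α δ = DD G α γ → δ = γ := by
    intro δ hδ e
    by_contra hne
    obtain ⟨r, hr, hr'⟩ := exists_other c.prim h (c.ne _ _ h)
    have h1 := hI α r hr _ (hZq _ _ hδ.symm) _ (hZq _ _ h.symm)
      (c.not_cent hδ hr (e ▸ hr') (ρ1 δ) (ρ2 δ).1.1 (ρ3 δ)) (c.not_cent h hr hr' (ρ1 γ) (ρ2 γ).1.1 (ρ3 γ))
    have h2 := mul_mem (hZq _ _ hδ.symm) (hZq _ _ h.symm)
    have h3 := hu α _ (fun e => hne (hinj _ _ (by rw [← mul_one (ρ δ), ← (ρ2 γ).2.1, ← mul_assoc, e, one_mul])))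
      h2.1.1 h2.2.1 (cen_of_two h hr hr' (fun d hd => (ρ3 δ d (e.ge hd).2).mul_right (ρ3 γ d hd.2)) h1)
    have h4 : ρ δ = ρ α * ρ γ := by rw [← h3, mul_assoc, (ρ2 γ).2.1, mul_one]
    have h5 : n • δ = δ := hinj _ _ (by
      rw [← hsm, h4, ← conj_mul, hsm, hsm, n1, n3, (ZZ_comm (ρ2 α) (hZq _ _ h.symm)).eq])
    suffices h6 : n ∈ normalizer (DD G δ α : Set G) by
      replace h6 := hδ.symm.gen le_normalizer h6 h5 (n1 ▸ h.ne.symm)
      obtain ⟨t, ht, ht'⟩ := exists_not_mem c.prim hδ.symm (c.ne _ _ hδ.symm)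
      exact ht' (le_QQ c.prim hδ.symm le_rfl (fun g hg x hx => (mem_normalizer_iff.mp (h6 hg) x).mp hx) ht)
    refine mem_normalizer_fintype fun x hx => ?_
    · rw [SetLike.mem_coe, DD_comm, e] at hx ⊢
      have h1 : n * x * n⁻¹ ∈ DD G (n • α) (n • γ) := mem_DD_smul.mpr (by simpa [mul_assoc] using hx)
      rwa [n1, n3, DD_comm] at h1
  have k1 : ∀ p q q' : Ω, col G p q → col G p q' → DD G p q' = DD G p q → q' = q := by
    intro p q q' h1 h2 e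
    obtain ⟨g, rfl, e'⟩ := exists_conj' c.prim h h1
    have h3 : ∀ q, col G (g • α) q → DD G (g • α) q = DD G (g • α) (g • γ) → q = g • γ := fun q hq e => by
      have h4 := DD_smul_congr g⁻¹ e
      have h5 := hq.smul g⁻¹
      simp only [inv_smul_smul] at h4 h5
      exact inv_smul_eq_iff.mp (k0 _ h5 h4)
    rw [h3 q h1 e'.symm, h3 q' h2 (e.trans e'.symm)]
  have k2 : ∀ p q q' : Ω, col G p q → col G p q' → ∃ g : G, g • p = p ∧ g • q = q' := fun p q q' h1 h2 =>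
    let ⟨g, hg, e⟩ := exists_conj c.prim h1 h2
    ⟨g, hg, k1 _ _ _ h2 (h1.smul' hg) e⟩
  have k3 : ∀ p q r : Ω, col G q p → col G q r → p ≠ r → ¬ ZZ G p ≤ QQ G r := by
    intro p q r h1 h2 hne hle
    obtain ⟨g, rfl⟩ := exists_smul_eq G γ q
    obtain ⟨g', g1, rfl⟩ := k2 _ _ _ (h.symm.smul g) h1
    have h3 : ∀ y : G, ¬ ZZ G (y • α) ≤ QQ G (y • α') := fun y hy => hZ fun z hz => by
      simpa [mul_assoc] using mem_QQ_smul.mp (hy (conj_mem_ZZ hz y))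
    have h4 : g' • g • α' ≠ g' • g • α := fun e => hZ (by
      rw [smul_left_cancel g (smul_left_cancel g' e)]; exact fun z hz => hz.1)
    obtain ⟨t, ht, ht'⟩ := exists_not_mem c.prim h1 (c.ne _ _ h1)
    obtain ⟨x, x1, x2⟩ := k2 _ _ _ h1 ((h'.smul g).smul' g1)
    obtain ⟨y, y1, rfl⟩ := k2 _ _ _ h1 h2
    by_cases h5 : x • g' • g • α = y • g' • g • α
    · rw [← h5, x2, ← mul_smul, ← mul_smul g'] at hle
      exact h3 _ hle
    · have h6 := h1.swap x1 y1 (x2 ▸ h4) hne.symm h5 ht fun e => ht' (mem_QQ c.prim h1 ht.1 fun _ hg =>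
        h1.fix x1 (x2 ▸ h4) ht e hg)
      rw [← h6, x2, ← ht.2, ← mul_smul g', ← mul_smul g', ← mul_smul, ← mul_smul] at hle
      exact h3 _ hle
  have k4 : ∀ p0 p1 p2 p3 p4 : Ω, col G p1 p0 → col G p2 p1 → col G p2 p3 → col G p3 p4 → p0 ≠ p2 → p1 ≠ p3 →
      p4 ≠ p2 → ρ p0 * ρ p4 * ρ p0 * ρ p4 = ρ p2 := by
    intro p0 p1 p2 p3 p4 h10 h21 h23 h34 n02 n13 n42
    obtain ⟨a, ha, haQ⟩ := SetLike.not_le_iff_exists.mp (k3 p1 p2 p3 h21 h23 n13)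
    have h1 : ZZ G p1 ≤ DD G p3 p2 := (H1 _ _ h21.symm).trans (DD_comm (G := G) p2 p3 ▸ QQ_le h23)
    have h2 : ZZ G p3 ≤ DD G p1 p2 := (H1 _ _ h23.symm).trans (DD_comm (G := G) p2 p1 ▸ QQ_le h21)
    obtain ⟨a', ha', hn⟩ := c.exists_noncomm (h1 ha).1 haQ
    obtain ⟨c1, c2, c3, c4, c5⟩ := c.comm_facts h21.symm ha (h1 ha).1 ha' (h2 ha') hn
    obtain ⟨-, -, -, -, c6⟩ := c.comm_facts h23.symm ha' (h2 ha').1 ha (h1 ha) fun e => hn e.symm
    rw [← c2] at c6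
    have h3 := hu p2 _ c1 (h1 c3).2 c3.2.1 (cen_of_two h21 h23 (fun e => n13 (k1 _ _ _ h21 h23 e).symm)
      c5.symm c6.symm)
    have h4 := hZq _ _ h10.symm
    have h5 := hZq _ _ h34.symm
    have h6 : ¬ Commute (ρ p4) (ρ p0) := fun e => by
      have h6 := c.not_cent h10 h21.symm (fun e => n02 (k1 _ _ _ h10 h21.symm e).symm) (ρ1 _) (ρ2 _).1.1 (ρ3 _)
      have h7 := c.not_cent h34 h23.symm (fun e => n42 (k1 _ _ _ h34 h23.symm e).symm) (ρ1 _) (ρ2 _).1.1 (ρ3 _)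
      refine h6 (c.cent_of h21.symm (h2 h5) (fun h8 => h7 (c.cent_of h23.symm (h1 ha) haQ h5 (ha.2.2 _ h8))) h4 e)
    rw [← h3, c.comm_unique h21.symm (hI _ _ h21.symm) ha h4 (h2 ha') (h2 h5) (fun e => hn e.symm) h6, ZZ_inv h5]
    group
  have k5 : ∀ p q : Ω, col G p q → ∃ r, col G p r ∧ r ≠ q := fun p q h =>
    let ⟨r, h1, h2⟩ := exists_other c.prim h (c.ne _ _ h)
    ⟨r, h1, fun e => h2 (e ▸ rfl)⟩
  have k6 : ∀ p0 p1 p2 p3 p4 p5 : Ω, col G p1 p0 → col G p2 p1 → col G p2 p3 → col G p3 p4 → col G p4 p5 → p0 ≠ p2 →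
      p1 ≠ p3 → p4 ≠ p2 → p5 ≠ p3 → (ρ p5 * ρ p0) ^ 4 = ρ p3 := by
    intro p0 p1 p2 p3 p4 p5 h10 h21 h23 h34 h45 n02 n13 n42 n53
    have h1 : ρ p0 • p3 = p3 := (H1 _ _ h21.symm (hZq _ _ h10.symm)).2 _ h23
    have h2 : p4 ≠ ρ p0 • p4 := fun e => ρ1 p2 (by
      rw [← k4 p0 p1 p2 p3 p4 h10 h21 h23 h34 n02 n13 n42, (ρ3 p4 _ e.symm).eq, mul_assoc (ρ p4), (ρ2 p0).2.1,
        mul_one, (ρ2 p4).2.1])
    rw [← k4 p5 p4 p3 _ _ h45 h34 (h34.smul' h1) (h45.smul _) n53 h2 (fun e => n53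
      (smul_left_cancel _ (e.trans h1.symm))), ← hsm, ZZ_inv (ρ2 p0)]
    simp only [pow_succ, pow_zero, one_mul, mul_assoc]
  obtain ⟨p1, h21, n13⟩ := k5 α γ h
  obtain ⟨p0, h10, n02⟩ := k5 p1 α h21.symm
  obtain ⟨p4, h34, n42⟩ := k5 γ α h.symm
  obtain ⟨p5, h45, n53⟩ := k5 p4 γ h34.symm
  have h1 := k6 p0 p1 α γ p4 p5 h10 h21 h h34 h45 n02 n13 n42 n53
  have h2 := k6 p5 p4 γ α p1 p0 h45 h34 h.symm h21 h10 n53 n42 n13 n02
  refine h.ne (hinj _ _ ?_)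
  rw [← h2, ← ZZ_inv (ρ2 γ), ← h1, ← inv_pow, mul_inv_rev, ZZ_inv (ρ2 p0), ZZ_inv (ρ2 p5)]

end Con

end Cfsg.Agent.Perm2.Sims
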