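import Cfsg.Agent.Perm2.Sims2
import Cfsg.Agent.Perm2.Dihedral
import Cfsg.Agent.Pres.Sym

/-! Sims' theorem on primitive groups with a suborbit of length three. -/

set_option autoImplicit false

namespace Cfsg.Agent.Perm2.Sims

open MulAction Subgroup

variable {G Ω : Type*} [Group G] [MulAction G Ω]

theorem equiv_of_range {A : Type*} [Group A] [Finite A] (f : A →* G) {H : Subgroup G} (h : f.range = H)
    (hc : Nat.card A = Nat.card H) : Nonempty (H ≃* A) := by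
  subst h
  exact ⟨(MulEquiv.ofBijective f.rangeRestrict ((Nat.bijective_iff_surjective_and_card _).mpr
    ⟨f.rangeRestrict_surjective, hc⟩)).symm⟩

theorem range_le_of_adj {n : ℕ} (f : Equiv.Perm (Fin (n + 1)) →* G) {H : Subgroup G}
    (h : ∀ i, f (Pres.adj n i) ∈ H) : f.range ≤ H := by
  rw [MonoidHom.range_eq_map, ← Pres.adj_closure, map_le_iff_le_comap, closure_le]
  rintro _ ⟨i, rfl⟩
  exact h i

variable [Finite G] [FaithfulSMul G Ω]

theorem exists_order_three (hprim : IsPreprimitive G Ω) {p q : Ω} (h : col G p q)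
    (hQ : ∀ y ∈ QQ G p, y * y = 1) {t : G} (ht : t ∈ DD G p q) (ht' : t ∉ QQ G p) (h2 : t * t = 1) :
    ∃ x : G, x • p = p ∧ x • q ≠ q ∧ x ^ 3 = 1 ∧ t * x * t = x⁻¹ := by
  obtain ⟨g₁, g₂, a1, a2, a3, a4, a5, -⟩ := h.exists_three
  have key : ∀ {q : Ω} {t g g' : G}, col G p q → t ∈ DD G p q → t ∉ QQ G p → g • p = p → g' • p = p →
      g • q ≠ q → g' • q ≠ q → g • q ≠ g' • q → t • g • q = g' • q := fun h ht ht' b1 b2 b3 b4 b5 =>
    h.swap b1 b2 b3 b4 b5 ht fun e => ht' (mem_QQ hprim h ht.1 fun _ hg => h.fix b1 b3 ht e hg)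
  set s := g₁ * t * g₁⁻¹ with hs
  have b1 : g₁⁻¹ • p = p := inv_smul_eq_iff.mpr a1.symm
  have hsD : s ∈ DD G p (g₁ • q) := by
    have : s ∈ DD G (g₁ • p) (g₁ • q) := mem_DD_smul.mpr (by simpa [hs, mul_assoc] using ht)
    rwa [a1] at this
  have hsQ : s ∉ QQ G p := fun e => ht' (by simpa [hs, mul_assoc] using conj_mem_QQ' e b1)
  have hs2 : s * s = 1 := by rw [hs, conj_mul, h2, mul_one, mul_inv_cancel]
  have c1 := key h ht ht' a1 a2 a3.symm a4.symm a5
  have c2 := key h ht ht' a2 a1 a4.symm a3.symm a5.symm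
  have b2 : (g₂ * g₁⁻¹) • p = p := by rw [mul_smul, b1, a2]
  have c3 := key (h.smul' a1) hsD hsQ b1 b2 (by simpa using a3) (by simpa [mul_smul] using a5.symm)
    (by simpa [mul_smul] using a4)
  simp only [mul_smul, inv_smul_smul] at c3
  have c4 : s • g₂ • q = q := by rw [← c3, ← mul_smul, hs2, one_smul]
  have d1 : (t * s) • q = g₁ • q := by rw [mul_smul, c3, c2]
  have d2 : (t * s) • g₁ • q = g₂ • q := by rw [mul_smul, hsD.2, c1]
  have d3 : (t * s) • g₂ • q = q := by rw [mul_smul, c4, ht.2]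
  have d0 : t * s ∈ stabilizer G p := mul_mem ht.1 hsD.1
  have e1 : (t * s) ^ 3 ∈ DD G p q := ⟨pow_mem d0 3, by
    show (t * s) ^ 3 • q = q
    rw [pow_three, mul_smul, mul_smul (t * s), d1, d2, d3]⟩
  have e2 := hQ _ (mem_QQ hprim h e1.1 fun _ hg => h.fix a1 a3.symm e1 (by
    rw [pow_three, mul_smul, mul_smul (t * s), d2, d3, d1]) hg)
  refine ⟨(t * s) ^ 2, pow_mem d0 2, by rw [pow_two, mul_smul, d1, d2]; exact a4.symm,
    by rw [← pow_mul, show 2 * 3 = 3 + 3 from rfl, pow_add, e2], ?_⟩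
  rw [pow_two, mul_inv_rev, mul_inv_rev, inv_eq_of_mul_eq_one_right h2, inv_eq_of_mul_eq_one_right hs2]
  calc t * (t * s * (t * s)) * t = (t * t) * (s * t * (s * t)) := by simp only [mul_assoc]
    _ = _ := by rw [h2, one_mul]

theorem stab_le_of (hprim : IsPreprimitive G Ω) {p q : Ω} (h : col G p q) {Y : Subgroup G} (hQ : QQ G p ≤ Y)
    {t x : G} (ht : t ∈ DD G p q) (ht' : t ∉ QQ G p) (htY : t ∈ Y) (hx : x ∈ Y) (h1 : x • p = p)
    (h2 : x • q ≠ q) : stabilizer G p ≤ Y :=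
  h.gen (fun d hd => (em (d ∈ QQ G p)).elim (fun e => hQ e) fun e =>
    (mul_mem_cancel_left htY).mp (hQ (mul_mem_QQ hprim h ht hd ht' e))) hx h1 h2

theorem card_stab (hprim : IsPreprimitive G Ω) {p q : Ω} (h : col G p q) (hD : DD G p q ≠ ⊥) :
    Nat.card (stabilizer G p) = Nat.card (QQ G p) * 6 := by
  rw [← h, ← card_DD hprim h hD, mul_assoc]
  rfl

theorem uncon (hprim : IsPreprimitive G Ω) {a b : Ω} (h : col G a b) (hD : DD G a b ≠ ⊥) {p : Ω} {g : G}
    (hp : g • p = p) (hg : ∀ x ∈ QQ G p, Commute g x) (hn : g ∉ QQ G p) :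
    Nonempty (stabilizer G a ≃* Equiv.Perm (Fin 3)) ∨ Nonempty (stabilizer G a ≃* DihedralGroup 6) := by
  have key : ∀ a b : Ω, col G a b → stabilizer G a ≤ normalizer ((QQ G a ⊓ QQ G b : Subgroup G) : Set G) := by
    intro a b h
    obtain ⟨y, rfl⟩ := exists_smul_eq G p a
    by_cases h1 : stabilizer G (y • p) ⊓ centralizer (QQ G (y • p) : Set G) ≤ DD G (y • p) b
    · refine absurd (le_QQ hprim h h1 (fun w hw x hx => ⟨(stabilizer G _).mul_mem
        ((stabilizer G _).mul_mem hw hx.1) ((stabilizer G _).inv_mem hw), fun v hv => ?_⟩) (x := y * g * y⁻¹)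
        ⟨by show _ • _ = _; rw [mul_smul, mul_smul, inv_smul_smul, hp], fun v hv =>
          ((commute_conj_iff y).mpr (hg _ (mem_QQ_smul.mp hv))).symm⟩) fun e => hn ?_
      · refine ((commute_conj_iff w).mpr (Commute.symm (hx.2 _ (mem_QQ_smul.mp ?_)))).symm
        rwa [hw]
      · simpa [mul_assoc] using mem_QQ_smul.mp e
    · obtain ⟨x, hx, hx'⟩ := SetLike.not_le_iff_exists.mp h1
      refine h.gen (le_normalizer_of_conj fun d hd t ht => ⟨conj_mem_QQ' ht.1 hd.1, conj_mem_QQ' ht.2 hd.2⟩)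
        (mem_normalizer_fintype fun t ht => ?_) hx.1 fun e => hx' ⟨hx.1, e⟩
      rwa [← hx.2 t ht.1, mul_inv_cancel_right]
  have h1 := eq_bot_of_normalized_two hprim h.ne (X := QQ G a ⊓ QQ G b) (fun x hx => hx.1.1) (key a b h)
    (inf_comm (QQ G b) (QQ G a) ▸ key b a h.symm)
  have h2 : ∀ a b : Ω, col G a b → QQ G a ⊓ QQ G b = ⊥ → ∀ y ∈ QQ G a, ∀ y' ∈ QQ G a, y ≠ 1 → y' ≠ 1 →
      y * y' = 1 := fun a b h h1 y hy y' hy' n1 n2 => h1.le ⟨mul_mem hy hy', mul_mem_QQ hprim h.symm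
        (DD_comm (G := G) a b ▸ QQ_le h hy) (DD_comm (G := G) a b ▸ QQ_le h hy') (fun e => n1 (h1.le ⟨hy, e⟩))
        fun e => n2 (h1.le ⟨hy', e⟩)⟩
  have h3 : ∀ y ∈ QQ G a, y * y = 1 := fun y hy => (em (y = 1)).elim (fun e => by rw [e, one_mul])
    fun e => h2 a b h h1 y hy y hy e e
  by_cases hQ : QQ G a = ⊥
  · obtain ⟨t, ht, ht'⟩ := exists_not_mem hprim h hD
    have t2 : t * t = 1 := hQ.le (mul_mem_QQ hprim h ht ht ht' ht')
    obtain ⟨x, x1, x2, x3, x4⟩ := exists_order_three hprim h h3 ht ht' t2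
    obtain ⟨f, hf⟩ := Pres.exists_hom_perm 2 ![t, t * x] (fun i => by
      fin_cases i
      exacts [t2, by simp [← mul_assoc, x4]]) (fun i j hij => by
      fin_cases i <;> fin_cases j <;> simp at hij
      simp [← mul_assoc, t2, x3]) (fun i j hij => by fin_cases i <;> fin_cases j <;> simp at hij)
    have f0 : t ∈ f.range := ⟨_, hf 0⟩
    refine .inl (equiv_of_range f (le_antisymm (range_le_of_adj f fun i => ?_) (stab_le_of hprim h
      (hQ ▸ bot_le) ht ht' f0 ((mul_mem_cancel_left f0).mp ⟨_, hf 1⟩) x1 x2)) ?_)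
    · rw [hf]
      fin_cases i
      exacts [ht.1, (stabilizer G a).mul_mem ht.1 x1]
    · rw [card_stab hprim h hD, hQ, card_bot, Nat.card_eq_fintype_card]
      rfl
  · obtain ⟨⟨u, hu⟩, u1⟩ := ne_bot_iff_exists_ne_one.mp hQ
    replace u1 : u ≠ 1 := fun e => u1 (Subtype.ext e)
    obtain ⟨y, rfl⟩ := exists_smul_eq G a b
    have ht := conj_mem_QQ hu y
    have t1 : y * u * y⁻¹ ≠ 1 := by simpa using u1
    have t2 : y * u * y⁻¹ * (y * u * y⁻¹) = 1 := by rw [conj_mul, h3 u hu, mul_one, mul_inv_cancel]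
    generalize y * u * y⁻¹ = t at ht t1 t2
    have htD : t ∈ DD G a (y • a) := DD_comm (G := G) (y • a) a ▸ QQ_le h.symm ht
    have ht' : t ∉ QQ G a := fun e => t1 (h1.le ⟨e, ht⟩)
    obtain ⟨x, x1, x2, x3, x4⟩ := exists_order_three hprim h h3 htD ht' t2
    have h4 : ∀ v ∈ QQ G a, v ≠ 1 → v = u := fun v hv v1 =>
      mul_right_cancel ((h2 _ _ h h1 v hv u hu v1 u1).trans (h3 u hu).symm)
    have h5 : ∀ w : G, w • a = a → Commute w u := fun w hw =>
      mul_inv_eq_iff_eq_mul.mp (h4 _ (conj_mem_QQ' hu hw) (by simpa using u1))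
    have h6 : (x * u) ^ 3 = u := by rw [(h5 x x1).mul_pow, x3, one_mul, pow_three, h3 u hu, mul_one]
    let f := dihedralHom 6 (x * u) t (by rw [show 6 = 3 + 3 from rfl, pow_add, h6, h3 u hu]) t2 (by
      rw [← mul_assoc, mul_assoc (t * x), ← (h5 t htD.1).eq, ← mul_assoc, x4, (h5 x x1).mul_inv,
        inv_eq_of_mul_eq_one_right (h3 u hu)])
    have f1 : x * u ∈ f.range := ⟨.r 1, pow_one _⟩
    have f2 : u ∈ f.range := h6 ▸ pow_mem f1 3
    have f3 : x * u ∈ stabilizer G a := (stabilizer G a).mul_mem x1 hu.1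
    refine .inr (equiv_of_range f (le_antisymm ?_ (stab_le_of hprim h (fun v hv =>
      (em (v = 1)).elim (fun e => e ▸ one_mem _) fun e => h4 v hv e ▸ f2) htD ht' ⟨.sr 0, show t * (x * u) ^ 0 = t by rw [pow_zero, mul_one]⟩
        ((mul_mem_cancel_right f2).mp f1) x1 x2)) ?_)
    · rintro _ ⟨i | i, rfl⟩
      exacts [pow_mem f3 _, (stabilizer G a).mul_mem htD.1 (pow_mem f3 _)]
    · rw [card_stab hprim h hD, DihedralGroup.nat_card, show Nat.card (QQ G a) = 2 from Set.ncard_eq_two.mpr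
        ⟨1, u, u1.symm, Set.ext fun v => ⟨fun hv => (em (v = 1)).imp_right (h4 v hv), by
          rintro (rfl | rfl); exacts [one_mem _, hu]⟩⟩]

theorem Con.main (c : Con G Ω) (p₀ : Ω) : ∃ p : Ω, Nonempty (stabilizer G p ≃* Equiv.Perm (Fin 4)) ∨
    Nonempty (stabilizer G p ≃* Equiv.Perm (Fin 4) × Multiplicative (ZMod 2)) := by
  have := c.prim
  obtain ⟨p, q, h, hZ⟩ := c.exists_near p₀
  obtain ⟨a, ha, haQ⟩ := SetLike.not_le_iff_exists.mp hZ
  have h1 : ZZ G p ≤ DD G q p := fun z hz => DD_comm (G := G) p q ▸ QQ_le h hz.1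
  obtain ⟨t, ht, hn⟩ := c.exists_noncomm (h1 ha).1 haQ
  have htD : t ∈ DD G p q := DD_comm (G := G) q p ▸ QQ_le h.symm ht.1
  have htQ : t ∉ QQ G p := fun e => hn (ha.2.2 _ e)
  have hI := fun p' q' => c.II_all h (c.II_of_crit h h.symm h1 ht htD htQ) (p' := p') (q' := q')
  have key : ∀ (p q : Ω) (a : G), col G p q → a ∈ ZZ G p → a ∉ QQ G q → ∀ x ∈ QQ G p,
      ∃ y ∈ QQ G q, x * x = y * y := by
    intro p q a h ha haQ x hx
    by_cases h2 : x ∈ QQ G q
    · exact ⟨x, h2, rfl⟩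
    · refine ⟨a * x, mul_mem_QQ c.prim h.symm (DD_comm (G := G) p q ▸ QQ_le h ha.1)
        (DD_comm (G := G) p q ▸ QQ_le h hx) haQ h2, ?_⟩
      rw [mul_assoc, ← mul_assoc x, ← (ha.2.2 x hx).eq, ← mul_assoc, ← mul_assoc, ha.2.1, one_mul]
  have h2 : {y | ∃ x ∈ QQ G q, x * x = y} = {y | ∃ x ∈ QQ G p, x * x = y} := by
    ext y
    constructor <;> rintro ⟨x, hx, rfl⟩
    exacts [(key q p t h.symm ht htQ x hx).imp fun y hy => ⟨hy.1, hy.2.symm⟩,
      (key p q a h ha haQ x hx).imp fun y hy => ⟨hy.1, hy.2.symm⟩]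
  have h3 : ∀ p : Ω, stabilizer G p ≤ normalizer (closure {y | ∃ x ∈ QQ G p, x * x = y} : Set G) := fun p =>
    le_trans (fun g hg => mem_normalizer_fintype (by
      rintro _ ⟨x, hx, rfl⟩
      exact ⟨_, conj_mem_QQ' hx hg, conj_mul⟩)) (normalizer_le_normalizer_closure _)
  have h4 := eq_bot_of_normalized_two c.prim h.ne ((closure_le _).mpr (by
    rintro _ ⟨x, hx, rfl⟩
    exact (mul_mem hx hx).1)) (h3 p) (h2 ▸ h3 q)
  have h5 : ∀ r, ∀ y ∈ QQ G r, y * y = 1 := fun r y hy => by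
    obtain ⟨g, rfl⟩ := exists_smul_eq G p r
    have h5 : g⁻¹ * y * g * (g⁻¹ * y * g) = 1 := h4.le (subset_closure ⟨_, mem_QQ_smul.mp hy, rfl⟩)
    calc y * y = g * (g⁻¹ * y * g * (g⁻¹ * y * g)) * g⁻¹ := by group
      _ = 1 := by rw [h5, mul_one, mul_inv_cancel]
  have h6 : ∀ r, ∀ y ∈ QQ G r, y ∈ ZZ G r := fun r y hy => ⟨hy, h5 r y hy, fun x hx => by
    show y * x = x * y
    rw [eq_inv_of_mul_eq_one_left (h5 r _ (mul_mem hy hx)), mul_inv_rev, inv_eq_of_mul_eq_one_left (h5 r x hx),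
      inv_eq_of_mul_eq_one_left (h5 r y hy)]⟩
  obtain ⟨x, x1, x2, x3, x4⟩ := exists_order_three c.prim h (h5 p) htD htQ ht.2.1
  obtain ⟨v1, -, v2, -, v3⟩ := c.comm_facts h ha (h1 ha).1 ht htD hn
  have hx : ∀ y ∈ ZZ G p, x * y * x⁻¹ ∈ ZZ G p := fun y hy => conj_mem_ZZ' hy x1
  have hx' : ∀ y ∈ ZZ G p, x⁻¹ * y * x ∈ ZZ G p := fun y hy => by
    simpa using conj_mem_ZZ' hy (inv_smul_eq_iff.mpr x1.symm)
  have x5 : x * x = x⁻¹ := eq_inv_of_mul_eq_one_left (by rw [← x3, pow_three'])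
  have hnt : ¬ Commute t a := fun e => hn e.symm
  have hvu : ∀ y ∈ ZZ G p, ¬ Commute t y → a * (t * a * t⁻¹) = y * (t * y * t⁻¹) := fun y hy hc =>
    c.comm_unique h (hI p q h) ha hy htD htD hnt hc
  generalize hv : a * (t * a * t⁻¹) = v at v1 v2 v3 hvu
  have x6 : x = t * (x * t * x⁻¹) := by
    rw [← mul_assoc, ← mul_assoc, x4, ← mul_inv_rev, x5, inv_inv]
  have hxv : ¬ Commute x v := fun hc => by
    have h7 : ∀ y ∈ ZZ G p, t * y * t⁻¹ = y ∨ t * y * t⁻¹ = y * v := fun y hy =>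
      (em (Commute t y)).imp (fun e => by rw [e.eq, mul_inv_cancel_right]) fun e => by
        rw [hvu y hy e, ← mul_assoc, hy.2.1, one_mul]
    have h8 : ∀ y ∈ ZZ G p, x * y * x⁻¹ = y ∨ x * y * x⁻¹ = y * v := fun y hy => by
      have h8 : x * y * x⁻¹ = t * (x * (t * (x⁻¹ * y * x) * t⁻¹) * x⁻¹) * t⁻¹ := by
        conv_lhs => rw [x6]
        group
      have h9 : x * (x⁻¹ * y * x * v) * x⁻¹ = y * v := by rw [mul_assoc _ x v, hc.eq]; group
      have h10 : t * (y * v) * t⁻¹ = t * y * t⁻¹ * v := by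
        rw [← mul_assoc, mul_assoc _ v, (v3 t htD).symm.inv_right.eq, ← mul_assoc]
      rcases h7 _ (hx' y hy) with e | e <;> rw [h8, e]
      · rw [show x * (x⁻¹ * y * x) * x⁻¹ = y by group]
        exact h7 y hy
      · rw [h9, h10]
        exact (h7 y hy).symm.imp (fun e => by rw [e, mul_assoc, v2.2.1, mul_one]) fun e => by rw [e]
    refine x2 ((c.cent x1 fun y hy => (h8 y hy).elim mul_inv_eq_iff_eq_mul.mp fun e => absurd ?_ v1).2 q h)
    have h9 : x * (y * v) * x⁻¹ = y := by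
      rw [← mul_assoc, mul_assoc _ v, hc.symm.inv_right.eq, ← mul_assoc, e, mul_assoc, v2.2.1, mul_one]
    have h10 : x ^ 3 * y * (x ^ 3)⁻¹ = x * (x * (x * y * x⁻¹) * x⁻¹) * x⁻¹ := by rw [pow_three]; group
    rw [e, h9, e, x3, one_mul, inv_one, mul_one] at h10
    exact (left_eq_mul.mp h10)
  have hcen : ∀ y ∈ ZZ G p, Commute x y → Cen y p := by
    intro y hy hc
    refine cen_of_gen h (c.cent_of h htD htQ hy (by_contra fun e => hxv ?_)) hc x1 x2
    rw [hvu y hy e]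
    refine hc.mul_right (Commute.symm ((commute_conj_iff t).mpr ?_))
    rw [ZZ_inv ht, x4]
    exact hc.symm.inv_right
  have hN : (x⁻¹ * v) ^ 3 = 1 := by
    have h7 := mul_mem (mul_mem ha (hx a ha)) (hx' a ha)
    have h8 := hcen _ h7 (by
      have h8 : x * (a * (x * a * x⁻¹) * (x⁻¹ * a * x)) * x⁻¹ = x * a * x⁻¹ * (x⁻¹ * a * x) * a := by
        calc _ = x * a * x⁻¹ * (x * x * a * (x * x)⁻¹) * a := by group
          _ = _ := by rw [x5, inv_inv]
      rw [← (ZZ_comm ha (mul_mem (hx a ha) (hx' a ha))).eq, ← mul_assoc a (x * a * x⁻¹)] at h8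
      exact mul_inv_eq_iff_eq_mul.mp h8) t htD.1
    have h9 : t * (a * (x * a * x⁻¹) * (x⁻¹ * a * x)) * t⁻¹ =
        t * a * t⁻¹ * (x⁻¹ * (t * a * t⁻¹) * x) * (x * (t * a * t⁻¹) * x⁻¹) := by
      calc _ = t * a * t⁻¹ * ((t * x * t⁻¹) * (t * a * t⁻¹) * (t * x * t⁻¹)⁻¹) *
          ((t * x * t⁻¹)⁻¹ * (t * a * t⁻¹) * (t * x * t⁻¹)) := by group
        _ = _ := by rw [show t * x * t⁻¹ = x⁻¹ by rw [ZZ_inv ht, x4], inv_inv]
    have ha' := conj_mem_ZZ' ha htD.1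
    rw [h8.eq, mul_inv_cancel_right] at h9
    have h10 := h7.2.1
    nth_rewrite 2 [h9] at h10
    have h11 : (x⁻¹ * v) ^ 3 = (x⁻¹ * a * x) * (x⁻¹ * (t * a * t⁻¹) * x) * ((x * a * x⁻¹) *
        (x * (t * a * t⁻¹) * x⁻¹)) * (a * (t * a * t⁻¹)) := by
      calc _ = (x⁻¹ * v * x) * ((x * x)⁻¹ * v * (x * x)) * (x ^ 3)⁻¹ * v := by rw [pow_three, pow_three]; group
        _ = _ := by rw [x3, x5, inv_inv, ← hv]; group
    rw [h11, ← h10]
    have : IsMulCommutative (ZZ G p) := ⟨⟨fun a b => Subtype.ext (ZZ_comm a.2 b.2)⟩⟩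
    have h12 : ∀ a b c d e f : ZZ G p, c * e * (b * f) * (a * d) = a * b * c * (d * e * f) := by
      intros; ac_rfl
    exact congrArg Subtype.val (h12 ⟨_, ha⟩ ⟨_, hx a ha⟩ ⟨_, hx' a ha⟩ ⟨_, ha'⟩ ⟨_, hx' _ ha'⟩ ⟨_, hx _ ha'⟩)
  have htv := (v3 t htD).eq
  obtain ⟨f, hf⟩ := Pres.exists_hom_perm 3 ![t, t * x, t * v] (fun i => by
    fin_cases i
    exacts [ht.2.1, by simp [← mul_assoc, x4], by
      show t * v * (t * v) = 1
      rw [mul_assoc, ← mul_assoc v, ← htv, mul_assoc, v2.2.1, mul_one, ht.2.1]]) (fun i j hij => by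
    fin_cases i <;> fin_cases j <;> simp at hij
    exacts [by simp [← mul_assoc, ht.2.1, x3], by simp [← mul_assoc, x4, hN]]) (fun i j hij => by
    fin_cases i <;> fin_cases j <;> simp at hij
    simp [← mul_assoc, ht.2.1, pow_two, v2.2.1])
  have f0 : f (Pres.adj 3 0) = t := hf 0
  have f1 : f (Pres.adj 3 0 * Pres.adj 3 1) = x := by
    rw [map_mul, hf, hf]; simp [← mul_assoc, ht.2.1]
  have f2 : f (Pres.adj 3 0 * Pres.adj 3 2) = v := by
    rw [map_mul, hf, hf]; simp [← mul_assoc, ht.2.1]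
  have hinj : Function.Injective f := (injective_iff_map_eq_one f).mpr fun σ hσ => by
    rcases (by decide +kernel : ∀ σ : Equiv.Perm (Fin 4), σ = 1 ∨ ∃ a b, a * σ * a⁻¹ * (b * σ * b⁻¹) =
      Pres.adj 3 0 * Pres.adj 3 2 ∨ a * σ * a⁻¹ = Pres.adj 3 0 * Pres.adj 3 2) σ with e | ⟨a, b, e | e⟩
    · exact e
    all_goals exact absurd (by rw [← f2, ← e]; simp [hσ]) v1
  have hle : f.range ≤ stabilizer G p := range_le_of_adj f fun i => by
    rw [hf]
    fin_cases i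
    exacts [htD.1, (stabilizer G p).mul_mem htD.1 x1, (stabilizer G p).mul_mem htD.1 v2.1.1]
  have hge : ∀ Y : Subgroup G, f.range ≤ Y → (∀ y ∈ ZZ G p, Cen y p → y ∈ Y) → stabilizer G p ≤ Y := by
    intro Y hY hC
    have hxY := hY ⟨_, f1⟩
    have hvY := hY ⟨_, f2⟩
    refine stab_le_of c.prim h (fun y hy => ?_) htD htQ (hY ⟨_, f0⟩) hxY x1 x2
    have h' := h.smul' x1
    have hne : DD G p (x • q) ≠ DD G p q := fun e => by
      have h7 := h.gen (Y := normalizer (DD G p q : Set G)) le_normalizer (mem_normalizer_fintype fun d hd => by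
        have h7 : x * d * x⁻¹ ∈ DD G (x • p) (x • q) := mem_DD_smul.mpr (by simpa [mul_assoc] using hd)
        rwa [x1, e] at h7) x1 x2
      exact htQ (le_QQ c.prim h le_rfl (fun g hg d hd => (mem_normalizer_iff.mp (h7 hg) d).mp hd) htD)
    have h7 : ¬ Cent v p (x • q) := fun e => hxv (cen_of_two h h' hne v3 e x x1)
    have h8 : Cent (x * v * x⁻¹) p (x • q) := by
      have := v3.conj x
      rwa [x1] at this
    have h9 : ¬ Cent (x * v * x⁻¹) p q := fun e => hxv (by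
      simpa [mul_assoc] using (cen_of_two h h' hne e h8 x x1).map (MulAut.conj x⁻¹))
    have h10 : ∀ y ∈ ZZ G p, Cent y p q → y ∈ Y := fun y hy e => by
      by_cases h10 : Cent y p (x • q)
      · exact hC y hy (cen_of_two h h' hne e h10)
      · exact (mul_mem_cancel_left hvY).mp (hC _ (mul_mem v2 hy) (cen_of_two h h' hne
          (fun d hd => (v3 d hd).mul_right (e d hd)) (hI _ _ h' _ v2 _ hy h7 h10)))
    by_cases h11 : Cent y p q
    · exact h10 y (h6 p y hy) h11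
    · exact (mul_mem_cancel_left (mul_mem (mul_mem hxY hvY) (inv_mem hxY))).mp
        (h10 _ (mul_mem (hx v v2) (h6 p y hy)) (hI _ _ h _ (hx v v2) _ (h6 p y hy) h9 h11))
  refine ⟨p, ?_⟩
  by_cases hr : ∃ r ∈ ZZ G p, Cen r p ∧ r ≠ 1
  · obtain ⟨r, r1, r2, r3⟩ := hr
    let g : Multiplicative (ZMod 2) →* G := MonoidHom.mk' (fun i => r ^ i.toAdd.val) fun i j => by
      rw [toAdd_mul, ZMod.val_add, ← pow_add, ← pow_eq_pow_mod _ (by rw [pow_two, r1.2.1])]
    let F := f.noncommCoprod g fun σ i => (r2 _ (hle ⟨σ, rfl⟩)).pow_right _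
    have hF : Function.Injective F := (injective_iff_map_eq_one F).mpr fun ⟨σ, i⟩ e => by
      have e' : f σ * r ^ i.toAdd.val = 1 := e
      rcases (by decide : ∀ i : Multiplicative (ZMod 2), i = 1 ∨ i.toAdd.val = 1) i with rfl | h1
      · rw [show σ = 1 from hinj (by simpa using e')]
        rfl
      · rw [h1, pow_one, mul_eq_one_iff_eq_inv, ZZ_inv r1] at e'
        have h7 := (by decide +kernel : ∀ σ : Equiv.Perm (Fin 4), (∀ τ, τ * σ = σ * τ) → σ = 1) σ fun τ =>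
          hinj (by rw [map_mul, map_mul, e']; exact r2 _ (hle ⟨τ, rfl⟩))
        exact absurd (by rw [← e', h7, map_one]) r3
    have hR : F.range = stabilizer G p := le_antisymm (by
      rintro _ ⟨⟨σ, i⟩, rfl⟩
      exact (stabilizer G p).mul_mem (hle ⟨σ, rfl⟩) (pow_mem (show r ∈ stabilizer G p from r1.1.1) _))
      (hge _ (by rintro _ ⟨σ, rfl⟩; exact ⟨(σ, 1), show f σ * r ^ 0 = f σ by rw [pow_zero, mul_one]⟩) fun y hy e => by
        by_cases y1 : y = 1
        · rw [y1]; exact one_mem _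
        · rw [c.cen_unique hI y1 hy.1.1 hy.2.1 e r3 r1.1.1 r1.2.1 r2]
          exact ⟨(1, Multiplicative.ofAdd 1), by
            show f 1 * r ^ 1 = r
            rw [map_one, one_mul, pow_one]⟩)
    exact .inr ⟨((MonoidHom.ofInjective hF).trans (MulEquiv.subgroupCongr hR)).symm⟩
  · exact .inl ⟨((MonoidHom.ofInjective hinj).trans (MulEquiv.subgroupCongr (le_antisymm hle (hge _ le_rfl
      fun y hy e => (not_not.mp fun y1 => hr ⟨y, hy, e, y1⟩ : y = 1) ▸ one_mem _)))).symm⟩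

theorem sims (hprim : IsPreprimitive G Ω) {a b : Ω} (h3 : Nat.card (orbit (stabilizer G a) b) = 3) :
    Nonempty (stabilizer G a ≃* Multiplicative (ZMod 3)) ∨ Nonempty (stabilizer G a ≃* Equiv.Perm (Fin 3)) ∨
      Nonempty (stabilizer G a ≃* DihedralGroup 6) ∨ Nonempty (stabilizer G a ≃* Equiv.Perm (Fin 4)) ∨
      Nonempty (stabilizer G a ≃* Equiv.Perm (Fin 4) × Multiplicative (ZMod 2)) := by
  have h : col G a b := by rw [col, ← h3]; exact card_inf_mul_card_suborbit a b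
  by_cases hD : DD G a b = ⊥
  · rw [col, hD, card_bot, one_mul] at h
    exact .inl ⟨mulEquivOfPrimeCardEq (p := 3) h.symm (by simp)⟩
  by_cases hc : ∀ (p : Ω) (g : G), g • p = p → (∀ x ∈ QQ G p, Commute g x) → g ∈ QQ G p
  · have c : Con G Ω := ⟨hprim, fun p q hpq e => hD (card_eq_one.mp (by
      have h1 : Nat.card (DD G a b) * 3 = Nat.card (DD G p q) * 3 := by
        rw [h, hpq, card_stabilizer_eq a p]
      rw [e, card_bot] at h1
      omega)), fun p => by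
      obtain ⟨g, rfl⟩ := exists_smul_eq G a p
      exact ⟨_, h.smul g⟩, hc⟩
    obtain ⟨p, hp⟩ := c.main a
    obtain ⟨g, rfl⟩ := exists_smul_eq G a p
    have e : stabilizer G a ≃* stabilizer G (g • a) := stabilizerEquivStabilizer rfl
    exact .inr (.inr (.inr (hp.imp (fun ⟨e'⟩ => ⟨e.trans e'⟩) fun ⟨e'⟩ => ⟨e.trans e'⟩)))
  · push Not at hc
    obtain ⟨p, g, h1, h2, h4⟩ := hc
    exact .inr ((uncon hprim h hD h1 h2 h4).imp_right .inl)

end Cfsg.Agent.Perm2.Sims
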